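import Mathlib
import Groth.Prelude.Def_AlgSt4
import Groth.Agent.Lib.Helper2.FibCat.FpBC
import Groth.Agent.Lib.Helper2.AlgSt.Pts.QCDescent

/-!
# Chart squares of morphisms of algebraic stacks: basic tools (helper2)
-/

set_option autoImplicit false
open CategoryTheory CategoryTheory.Functor CategoryTheory.Limits AlgebraicGeometry Opposite

universe u

namespace Groth.Agent.Helper2.AlgStLib.LocQ

open Groth.Agent.Helper2 Groth.Agent.Helper2.FibCatLib Groth.Agent.Helper2.StkLib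
open Groth.Agent.Helper2.AlgSpBasic Groth.Agent.Helper2.EtaleLocal
open Groth.Agent.Helper2.AlgStLib Groth.Agent.Helper2.AlgStLib.Pts

variable {S : Scheme.{u}} {𝒳 𝒴 𝒵 𝒜 : BasedCategory.{u, u + 1} (Over S)}

section BaseChange

variable (P : MorphismProperty (AlgSp.Sp S))

/-- The second projection of `𝒳 ×_𝒴 𝒵` is a base change of `f : 𝒳 ⟶ 𝒴`. -/
theorem repByAlgSpWith_fpSnd (f : 𝒳 ⥤ᵇ 𝒴) (g : 𝒵 ⥤ᵇ 𝒴) (hf : AlgSt.RepByAlgSpWith P f) :
    AlgSt.RepByAlgSpWith P (FibCat.fpSnd f g) :=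
  (repByAlgSpWith_of_square P (FibCat.fpFst g f) (FibCat.fpSnd f g) (FpSwap.fpSwap f g)
    (BasedFunctor.id _) (FpSwap.fpSwap_isEquivOver f g) ReprInv.isEquivOver_id (Iso.refl _)).1
    (repByAlgSpWith_fpFst P f g hf)

theorem repByAlgSpWith_mapSnd (F : 𝒳 ⥤ᵇ 𝒵) (G : 𝒴 ⥤ᵇ 𝒵) (β : 𝒜 ⥤ᵇ 𝒴)
    (hβ : AlgSt.RepByAlgSpWith P β) : AlgSt.RepByAlgSpWith P (FpBC.mapSnd F G β) :=
  (repByAlgSpWith_of_square P (FpBC.mapSnd F G β) (FibCat.fpFst (FibCat.fpSnd F G) β)
    (Paste.pasteA F G β) (BasedFunctor.id _) (Paste.pasteA_isEquivOver F G β)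
    ReprInv.isEquivOver_id (FpBC.pasteAMapSndIso F G β)).2
    (repByAlgSpWith_fpFst P β (FibCat.fpSnd F G) hβ)

theorem repByAlgSpWith_mapFst (F : 𝒳 ⥤ᵇ 𝒵) (G : 𝒴 ⥤ᵇ 𝒵) (α : 𝒜 ⥤ᵇ 𝒳)
    (hα : AlgSt.RepByAlgSpWith P α) : AlgSt.RepByAlgSpWith P (FpBC.mapFst F G α) :=
  (repByAlgSpWith_of_square P (FpBC.mapFst F G α) (FibCat.fpSnd α (FibCat.fpFst F G))
    (Paste.pasteB α F G) (BasedFunctor.id _) (Paste.pasteB_isEquivOver α F G)
    ReprInv.isEquivOver_id (FpBC.pasteBMapFstIso F G α)).2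
    (repByAlgSpWith_fpSnd P α (FibCat.fpFst F G) hα)

end BaseChange

section Classify

variable {U V : Over S}

theorem classify_aux {a b : Over V} (ha : a.left = U) (hb : b.left = U) (θ : a ⟶ b)
    (hθ : θ.left = eqToHom ha ≫ 𝟙 U ≫ eqToHom hb.symm) :
    eqToHom ha.symm ≫ a.hom = eqToHom hb.symm ≫ b.hom := by
  rw [← Over.w θ, hθ]
  simp

/-- 2-isomorphic functors between slices are classified by the same morphism. -/
theorem classify_congr {Φ Ψ : FibCat.overCat U ⥤ᵇ FibCat.overCat V} (e : Φ ≅ Ψ) :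
    OverFun.classify Φ = OverFun.classify Ψ := by
  have hl : (FibCat.overCat V).p.IsHomLift (𝟙 U) (e.hom.toNatTrans.app (Over.mk (𝟙 U))) :=
    BasedNatTrans.isHomLift e.hom rfl
  have hfac := IsHomLift.fac' (FibCat.overCat V).p (𝟙 U) (e.hom.toNatTrans.app (Over.mk (𝟙 U)))
  exact classify_aux (U := U) (Φ.w_obj (Over.mk (𝟙 U))) (Ψ.w_obj (Over.mk (𝟙 U)))
    (e.hom.toNatTrans.app (Over.mk (𝟙 U))) hfac

theorem classify_overMap (h : U ⟶ V) : OverFun.classify (AlgSt.overMap h) = h := by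
  unfold OverFun.classify
  change eqToHom _ ≫ (𝟙 U ≫ h) = h
  simp

theorem eq_of_overMap_iso {h h' : U ⟶ V} (e : AlgSt.overMap h ≅ AlgSt.overMap h') : h = h' := by
  rw [← classify_overMap h, ← classify_overMap h']
  exact classify_congr e

theorem classify_eq_of_iso {Φ : FibCat.overCat U ⥤ᵇ FibCat.overCat V} {h : U ⟶ V}
    (e : Φ ≅ AlgSt.overMap h) : OverFun.classify Φ = h := by
  rw [classify_congr e, classify_overMap]

/-- Every functor between slices is composition with its classifying morphism. -/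
theorem nonempty_iso_overMap_classify (Φ : FibCat.overCat U ⥤ᵇ FibCat.overCat V) :
    Nonempty (Φ ≅ AlgSt.overMap (OverFun.classify Φ)) :=
  OverFun.nonempty_iso_overMapBased Φ

/-- Composition of functors between slices. -/
def overMapCompIso {W : Over S} (a : W ⟶ U) (h : U ⟶ V) :
    BasedFunctor.comp (AlgSt.overMap a) (AlgSt.overMap h) ≅ AlgSt.overMap (a ≫ h) :=
  BasedNatIso.mkNatIso
    (NatIso.ofComponents (fun A => Over.isoMk (Iso.refl _) (by
        change 𝟙 A.left ≫ (A.hom ≫ a ≫ h) = (A.hom ≫ a) ≫ h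
        simp))
      (by
        intro A B m
        apply Over.OverMorphism.ext
        change m.left ≫ 𝟙 _ = 𝟙 _ ≫ m.left
        simp))
    (fun A => OverFun.over_isHomLift_id_of_left_eq _ rfl rfl)

end Classify

section SchemeProps

variable {U V : Over S}

theorem smooth_of_overMap (h : U ⟶ V)
    (hh : AlgSt.RepByAlgSpWith (AlgSp.LocP @Smooth) (AlgSt.overMap h)) : Smooth h.left :=
  AlgSp.locP_yon_map (prop_yon_map_of_repByAlgSpWith_overMap _
    (respectsIsoSp_of_stableBC (stableBC_locP _)) h hh)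

theorem smooth_of_iso_overMap {Φ : FibCat.overCat U ⥤ᵇ FibCat.overCat V} {h : U ⟶ V}
    (e : Φ ≅ AlgSt.overMap h) (hΦ : AlgSt.RepByAlgSpWith (AlgSp.LocP @Smooth) Φ) :
    Smooth h.left :=
  smooth_of_overMap h ((repByAlgSpWith_congr _ e).2 hΦ)

theorem surjective_of_overMap (h : U ⟶ V)
    (hh : AlgSt.RepByAlgSpWith AlgSp.IsSurjectiveMor (AlgSt.overMap h)) : Surjective h.left :=
  ⟨(surjectiveMor_yon_map_iff h).1 (prop_yon_map_of_repByAlgSpWith_overMap _
    (respectsIsoSp_of_stableBC stableBC_isSurjectiveMor) h hh)⟩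

theorem surjective_of_iso_overMap {Φ : FibCat.overCat U ⥤ᵇ FibCat.overCat V} {h : U ⟶ V}
    (e : Φ ≅ AlgSt.overMap h) (hΦ : AlgSt.RepByAlgSpWith AlgSp.IsSurjectiveMor Φ) :
    Surjective h.left :=
  surjective_of_overMap h ((repByAlgSpWith_congr _ e).2 hΦ)

end SchemeProps

end Groth.Agent.Helper2.AlgStLib.LocQ
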