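import Mathlib
import Groth.Prelude.Def_AlgSt4
import Groth.Prelude.Def_AlgSpCov
import Groth.Agent.Lib.Helper2.AlgSt.LocQ.Basic
import Groth.Agent.Lib.Helper2.AlgSp.SmoothLocal

/-!
# Comparing scheme charts of an algebraic stack (helper2)
-/

set_option autoImplicit false
open CategoryTheory CategoryTheory.Functor CategoryTheory.Limits AlgebraicGeometry Opposite

universe u

namespace Groth.Agent.Helper2.AlgStLib.LocQ

open Groth.Agent.Helper2 Groth.Agent.Helper2.FibCatLib Groth.Agent.Helper2.StkLib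
open Groth.Agent.Helper2.AlgSpBasic Groth.Agent.Helper2.EtaleLocal
open Groth.Agent.Helper2.AlgStLib Groth.Agent.Helper2.AlgStLib.Pts

variable {S : Scheme.{u}} {𝒳 𝒴 𝒬 : BasedCategory.{u, u + 1} (Over S)}

/-- Smooth functors. -/
abbrev Sm {𝒜 ℬ : BasedCategory.{u, u + 1} (Over S)} (f : 𝒜 ⥤ᵇ ℬ) : Prop :=
  AlgSt.RepByAlgSpWith (AlgSp.LocP @Smooth) f

/-- Surjective functors (representable by algebraic spaces). -/
abbrev Sj {𝒜 ℬ : BasedCategory.{u, u + 1} (Over S)} (f : 𝒜 ⥤ᵇ ℬ) : Prop :=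
  AlgSt.RepByAlgSpWith AlgSp.IsSurjectiveMor f

theorem sm_comp {𝒜 ℬ 𝒞 : BasedCategory.{u, u + 1} (Over S)} (h𝒜 : FibCat.IsFibGrpd 𝒜.p)
    (hℬ : FibCat.IsFibGrpd ℬ.p) (f : 𝒜 ⥤ᵇ ℬ) (g : ℬ ⥤ᵇ 𝒞) (hf : Sm f) (hg : Sm g) :
    Sm (BasedFunctor.comp f g) :=
  repByAlgSpWith_comp h𝒜 hℬ _ (stableBC_locP @Smooth) (stableComp_locP @Smooth)
    isLocalOnBase_fppf_locP_smooth f g hf hg

theorem sj_comp {𝒜 ℬ 𝒞 : BasedCategory.{u, u + 1} (Over S)} (h𝒜 : FibCat.IsFibGrpd 𝒜.p)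
    (hℬ : FibCat.IsFibGrpd ℬ.p) (f : 𝒜 ⥤ᵇ ℬ) (g : ℬ ⥤ᵇ 𝒞) (hf : Sj f) (hg : Sj g) :
    Sj (BasedFunctor.comp f g) :=
  repByAlgSpWith_comp h𝒜 hℬ _ stableBC_isSurjectiveMor stableComp_isSurjectiveMor
    isLocalOnBase_fppf_isSurjectiveMor f g hf hg

/-- **Fibre product of two charts.** Two scheme charts of an algebraic stack are dominated by a
common scheme chart, smooth (resp. surjective) over the first as soon as the second chart is
smooth (resp. surjective), and symmetrically. -/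
theorem exists_common_chart (h𝒬 : AlgSt.IsAlgStack Scheme.fppfPrecoverage 𝒬) {U₁ U₂ : Over S}
    (c₁ : FibCat.overCat U₁ ⥤ᵇ 𝒬) (c₂ : FibCat.overCat U₂ ⥤ᵇ 𝒬) :
    ∃ (W : Over S) (a₁ : W ⟶ U₁) (a₂ : W ⟶ U₂),
      Nonempty (BasedFunctor.comp (AlgSt.overMap a₁) c₁ ≅ BasedFunctor.comp (AlgSt.overMap a₂) c₂) ∧
      (Sm c₂ → Smooth a₁.left) ∧ (Sj c₂ → Surjective a₁.left) ∧
      (Sm c₁ → Smooth a₂.left) ∧ (Sj c₁ → Surjective a₂.left) := by
  have h1 := isAlgStack_overCat (S := S) U₁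
  have h2 := isAlgStack_overCat (S := S) U₂
  have h𝒯 : AlgSt.IsAlgStack Scheme.fppfPrecoverage (FibCat.fp c₁ c₂) :=
    isAlgStack_fp _ h1 h2 h𝒬 c₁ c₂
  obtain ⟨W, d, hd1, hd2⟩ := h𝒯.atlas
  have hW : FibCat.IsFibGrpd (FibCat.overCat W).p := isFibGrpd_overCat W
  let Φ₁ : FibCat.overCat W ⥤ᵇ FibCat.overCat U₁ := BasedFunctor.comp d (FibCat.fpFst c₁ c₂)
  let Φ₂ : FibCat.overCat W ⥤ᵇ FibCat.overCat U₂ := BasedFunctor.comp d (FibCat.fpSnd c₁ c₂)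
  obtain ⟨θ₁⟩ := nonempty_iso_overMap_classify Φ₁
  obtain ⟨θ₂⟩ := nonempty_iso_overMap_classify Φ₂
  refine ⟨W, OverFun.classify Φ₁, OverFun.classify Φ₂, ⟨?_⟩, ?_, ?_, ?_, ?_⟩
  · exact (postF _ c₁).mapIso θ₁.symm ≪≫ whiskerLeftIso d (FibCat.fpIso c₁ c₂) ≪≫
      (postF _ c₂).mapIso θ₂
  · intro hc₂
    exact smooth_of_iso_overMap θ₁ (sm_comp hW h𝒯.isStack.1 _ _ hd1
      (repByAlgSpWith_fpFst _ c₂ c₁ hc₂))
  · intro hc₂
    exact surjective_of_iso_overMap θ₁ (sj_comp hW h𝒯.isStack.1 _ _ hd2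
      (repByAlgSpWith_fpFst _ c₂ c₁ hc₂))
  · intro hc₁
    exact smooth_of_iso_overMap θ₂ (sm_comp hW h𝒯.isStack.1 _ _ hd1
      (repByAlgSpWith_fpSnd _ c₁ c₂ hc₁))
  · intro hc₁
    exact surjective_of_iso_overMap θ₂ (sj_comp hW h𝒯.isStack.1 _ _ hd2
      (repByAlgSpWith_fpSnd _ c₁ c₂ hc₁))

/-- The part of "smooth local on source-and-target" that does not involve descent: stability
under precomposition and postcomposition with smooth morphisms and under smooth base change. -/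
structure IsSmoothStable (P : MorphismProperty (AlgSp.Sp S)) : Prop where
  precomp : ∀ ⦃X Y Z : AlgSp.Sp S⦄, AlgSp.IsAlgSpace X → AlgSp.IsAlgSpace Y → AlgSp.IsAlgSpace Z →
    ∀ (f : X ⟶ Y) (g : Y ⟶ Z), AlgSp.LocP @Smooth f → P g → P (f ≫ g)
  baseChange : ∀ ⦃X Y X' Y' : AlgSp.Sp S⦄, AlgSp.IsAlgSpace X → AlgSp.IsAlgSpace Y →
    AlgSp.IsAlgSpace X' → AlgSp.IsAlgSpace Y' →
    ∀ (f : X ⟶ Y) (g : Y' ⟶ Y) (f' : X' ⟶ Y') (g' : X' ⟶ X),
      IsPullback g' f' f g → AlgSp.LocP @Smooth g → P f → P f'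
  postcomp : ∀ ⦃X Y Z : AlgSp.Sp S⦄, AlgSp.IsAlgSpace X → AlgSp.IsAlgSpace Y → AlgSp.IsAlgSpace Z →
    ∀ (f : X ⟶ Y) (g : Y ⟶ Z), P f → AlgSp.LocP @Smooth g → P (f ≫ g)

theorem IsSmoothStable.of_local {P : MorphismProperty (AlgSp.Sp S)}
    (hP : AlgSp.IsSmoothLocalST P) : IsSmoothStable P where
  precomp := hP.precomp
  baseChange := hP.baseChange
  postcomp := fun _ _ _ hX hY hZ f g hf hg => IsSmoothLocalST.postcomp hP hX hY hZ f g hf hg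

/-- `LocP Q` is smooth-stable as soon as `Q` is étale local on source-and-target and contains the
smooth morphisms. -/
theorem isSmoothStable_locP (Q : MorphismProperty Scheme.{u}) [IsEtaleLocalST Q]
    (hQ : @Smooth ≤ Q) : IsSmoothStable (S := S) (AlgSp.LocP Q) where
  precomp := fun _ _ _ hX hY hZ f g hf hg =>
    stableComp_locP Q hX hY hZ f g (locP_mono hQ hf) hg
  baseChange := fun _ _ _ _ hX hY hX' hY' f g f' g' sq _ hf =>
    stableBC_locP Q hX hY hX' hY' f g f' g' sq hf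
  postcomp := fun _ _ _ hX hY hZ f g hf hg =>
    stableComp_locP Q hX hY hZ f g hf (locP_mono hQ hg)

section PCalculus

variable {P : MorphismProperty (AlgSp.Sp S)} (hP : AlgSp.IsSmoothLocalST P)

theorem locP_smooth_yon_map {U V : Over S} (a : U ⟶ V) [Smooth a.left] :
    AlgSp.LocP @Smooth ((AlgSp.yon S).map a) :=
  locP_of_repWith @Smooth (AlgSp.IsAlgSpace.yon_obj U).diag _
    ((AlgSp.repWith_yon_map_iff @Smooth a).2 inferInstance)

include hP in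
theorem prop_precomp_scheme {W U V : Over S} (a : W ⟶ U) [Smooth a.left] (h : U ⟶ V)
    (hh : P ((AlgSp.yon S).map h)) : P ((AlgSp.yon S).map (a ≫ h)) := by
  rw [Functor.map_comp]
  exact hP.precomp (AlgSp.IsAlgSpace.yon_obj W) (AlgSp.IsAlgSpace.yon_obj U)
    (AlgSp.IsAlgSpace.yon_obj V) _ _ (locP_smooth_yon_map a) hh

include hP in
theorem prop_postcomp_scheme {U V V' : Over S} (h : U ⟶ V) (b : V ⟶ V') [Smooth b.left]
    (hh : P ((AlgSp.yon S).map h)) : P ((AlgSp.yon S).map (h ≫ b)) := by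
  rw [Functor.map_comp]
  exact IsSmoothLocalST.postcomp hP (AlgSp.IsAlgSpace.yon_obj U) (AlgSp.IsAlgSpace.yon_obj V)
    (AlgSp.IsAlgSpace.yon_obj V') _ _ hh (locP_smooth_yon_map b)

include hP in
/-- `P` can be checked after precomposing with a smooth surjective morphism of algebraic
spaces. -/
theorem prop_of_smooth_cover {X' X Y : AlgSp.Sp S} (hX' : AlgSp.IsAlgSpace X')
    (hX : AlgSp.IsAlgSpace X) (hY : AlgSp.IsAlgSpace Y) (a : X' ⟶ X) (f : X ⟶ Y)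
    (ha : AlgSp.LocP @Smooth a) (hs : AlgSp.IsSurjectiveMor a) (h : P (a ≫ f)) : P f := by
  refine (IsSmoothLocalST.isLocalOnSource hP (fun _ : PUnit.{u + 1} => X') (fun _ => a) hX (fun _ => hX')
    ⟨fun _ => ha, fun x => ?_⟩ f hY).2 (fun _ => h)
  obtain ⟨v, hv⟩ := hs x
  exact ⟨PUnit.unit, v, hv⟩

include hP in
theorem prop_of_cover_scheme {W U V : Over S} (a : W ⟶ U) [Smooth a.left] [Surjective a.left]
    (h : U ⟶ V) (hh : P ((AlgSp.yon S).map (a ≫ h))) : P ((AlgSp.yon S).map h) := by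
  rw [Functor.map_comp] at hh
  exact prop_of_smooth_cover hP (AlgSp.IsAlgSpace.yon_obj W) (AlgSp.IsAlgSpace.yon_obj U)
    (AlgSp.IsAlgSpace.yon_obj V) _ _ (locP_smooth_yon_map a)
    ((surjectiveMor_yon_map_iff a).2 (Surjective.surj (f := a.left))) hh

include hP in
/-- **Independence of the chart.** Let `π : 𝒬 ⟶ (Sch/V)` be a functor from an algebraic stack. If
for one smooth surjective chart `c₁ : (Sch/U₁) ⟶ 𝒬` the composite `U₁ ⟶ V` has `P`, then so does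
the composite `U₂ ⟶ V` for every smooth chart `c₂ : (Sch/U₂) ⟶ 𝒬`. -/
theorem prop_of_chart (h𝒬 : AlgSt.IsAlgStack Scheme.fppfPrecoverage 𝒬) {V : Over S}
    (π : 𝒬 ⥤ᵇ FibCat.overCat V) {U₁ U₂ : Over S}
    (c₁ : FibCat.overCat U₁ ⥤ᵇ 𝒬) (h₁ : U₁ ⟶ V)
    (e₁ : BasedFunctor.comp c₁ π ≅ AlgSt.overMap h₁) (hc₁ : Sm c₁) (hc₁' : Sj c₁)
    (hh₁ : P ((AlgSp.yon S).map h₁))
    (c₂ : FibCat.overCat U₂ ⥤ᵇ 𝒬) (h₂ : U₂ ⟶ V)
    (e₂ : BasedFunctor.comp c₂ π ≅ AlgSt.overMap h₂) (hc₂ : Sm c₂) :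
    P ((AlgSp.yon S).map h₂) := by
  obtain ⟨W, a₁, a₂, ⟨ω⟩, ha1, -, ha2, ha2'⟩ := exists_common_chart h𝒬 c₁ c₂
  have : Smooth a₁.left := ha1 hc₂
  have : Smooth a₂.left := ha2 hc₁
  have : Surjective a₂.left := ha2' hc₁'
  have key : a₁ ≫ h₁ = a₂ ≫ h₂ := by
    apply eq_of_overMap_iso
    exact (overMapCompIso a₁ h₁).symm ≪≫ whiskerLeftIso (AlgSt.overMap a₁) e₁.symm ≪≫
      (postF _ π).mapIso ω ≪≫ whiskerLeftIso (AlgSt.overMap a₂) e₂ ≪≫ overMapCompIso a₂ h₂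
  have h3 : P ((AlgSp.yon S).map (a₁ ≫ h₁)) := prop_precomp_scheme hP a₁ h₁ hh₁
  rw [key] at h3
  exact prop_of_cover_scheme hP a₂ h₂ h3

end PCalculus

end Groth.Agent.Helper2.AlgStLib.LocQ
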