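import Mathlib
import Groth.Prelude.Def_AlgSt4
import Groth.Agent.Lib.Helper2.AlgSt.LocalBase
import Groth.Agent.Lib.Helper2.AlgSt.FppfLift

/-!
# Fibre products of algebraic spaces and 2-fibre products, with both projections (helper2)
-/

set_option autoImplicit false
open CategoryTheory CategoryTheory.Functor CategoryTheory.Limits AlgebraicGeometry Opposite

universe w₄ v₄ w₃ v₃ w₂ v₂ w' v' w v u

namespace Groth.Agent.Helper2.AlgStLib.LocQ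

open Groth.Agent.Helper2 Groth.Agent.Helper2.FibCatLib Groth.Agent.Helper2.StkLib
open Groth.Agent.Helper2.AlgStLib

variable {S : Scheme.{u}}

section Congr

variable {𝒲 : BasedCategory.{v, w} (Over S)} {𝒳 : BasedCategory.{v', w'} (Over S)}
  {𝒴 : BasedCategory.{v₂, w₂} (Over S)}

/-- 2-isomorphic functors on the left give equivalent 2-fibre products, compatibly with both
projections. -/
theorem exists_equiv_fp_congr_both (Gs Gs' : 𝒲 ⥤ᵇ 𝒴) (f : 𝒳 ⥤ᵇ 𝒴) (θ : Gs ≅ Gs') :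
    ∃ Φ : FibCat.fp Gs f ⥤ᵇ FibCat.fp Gs' f, FibCat.IsEquivOver Φ ∧
      BasedFunctor.comp Φ (FibCat.fpFst Gs' f) = FibCat.fpFst Gs f ∧
      BasedFunctor.comp Φ (FibCat.fpSnd Gs' f) = FibCat.fpSnd Gs f := by
  let eF : Gs.toFunctor ⋙ (BasedFunctor.id 𝒴).toFunctor ≅
      (BasedFunctor.id 𝒲).toFunctor ⋙ Gs'.toFunctor := (BasedNatTrans.forgetful _ _).mapIso θ
  let eG : f.toFunctor ⋙ (BasedFunctor.id 𝒴).toFunctor ≅
      (BasedFunctor.id 𝒳).toFunctor ⋙ f.toFunctor := Iso.refl _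
  have heF : ∀ w, 𝒴.p.IsHomLift (𝟙 (𝒲.p.obj w)) (eF.hom.app w) := fun w =>
    BasedNatTrans.isHomLift θ.hom rfl
  have heG : ∀ x, 𝒴.p.IsHomLift (𝟙 (𝒳.p.obj x)) (eG.hom.app x) := fun x =>
    FpInv.isHomLift_id' 𝒴 (f.obj x) (f.w_obj x)
  refine ⟨FpMap.fpMap Gs f Gs' f (BasedFunctor.id 𝒲) (BasedFunctor.id 𝒳) (BasedFunctor.id 𝒴)
    eF eG heF heG, ?_, rfl, rfl⟩
  have : (BasedFunctor.id 𝒴).toFunctor.Full := inferInstanceAs (𝟭 _).Full
  have : (BasedFunctor.id 𝒴).toFunctor.Faithful := inferInstanceAs (𝟭 _).Faithful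
  exact FpMap.fpMap_isEquivOver Gs f Gs' f _ _ _ eF eG heF heG ReprInv.isEquivOver_id
    ReprInv.isEquivOver_id

/-- 2-isomorphic functors on the right give equivalent 2-fibre products, compatibly with both
projections. -/
theorem exists_equiv_fp_congr_right_both (Gs : 𝒲 ⥤ᵇ 𝒴) (f f' : 𝒳 ⥤ᵇ 𝒴) (θ : f ≅ f') :
    ∃ Φ : FibCat.fp Gs f ⥤ᵇ FibCat.fp Gs f', FibCat.IsEquivOver Φ ∧
      BasedFunctor.comp Φ (FibCat.fpFst Gs f') = FibCat.fpFst Gs f ∧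
      BasedFunctor.comp Φ (FibCat.fpSnd Gs f') = FibCat.fpSnd Gs f := by
  let eF : Gs.toFunctor ⋙ (BasedFunctor.id 𝒴).toFunctor ≅
      (BasedFunctor.id 𝒲).toFunctor ⋙ Gs.toFunctor := Iso.refl _
  let eG : f.toFunctor ⋙ (BasedFunctor.id 𝒴).toFunctor ≅
      (BasedFunctor.id 𝒳).toFunctor ⋙ f'.toFunctor := (BasedNatTrans.forgetful _ _).mapIso θ
  have heF : ∀ w, 𝒴.p.IsHomLift (𝟙 (𝒲.p.obj w)) (eF.hom.app w) := fun w =>
    FpInv.isHomLift_id' 𝒴 (Gs.obj w) (Gs.w_obj w)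
  have heG : ∀ x, 𝒴.p.IsHomLift (𝟙 (𝒳.p.obj x)) (eG.hom.app x) := fun x =>
    BasedNatTrans.isHomLift θ.hom rfl
  refine ⟨FpMap.fpMap Gs f Gs f' (BasedFunctor.id 𝒲) (BasedFunctor.id 𝒳) (BasedFunctor.id 𝒴)
    eF eG heF heG, ?_, rfl, rfl⟩
  have : (BasedFunctor.id 𝒴).toFunctor.Full := inferInstanceAs (𝟭 _).Full
  have : (BasedFunctor.id 𝒴).toFunctor.Faithful := inferInstanceAs (𝟭 _).Faithful
  exact FpMap.fpMap_isEquivOver Gs f Gs f' _ _ _ eF eG heF heG ReprInv.isEquivOver_id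
    ReprInv.isEquivOver_id

variable {𝒳' : BasedCategory.{v₃, w₃} (Over S)} {𝒴' : BasedCategory.{v₄, w₄} (Over S)}

/-- Invariance of the 2-fibre product under a 2-commutative square with equivalences, compatibly
with both projections. -/
theorem exists_equiv_fp_square_both (f : 𝒳 ⥤ᵇ 𝒴) (f' : 𝒳' ⥤ᵇ 𝒴') (a : 𝒳' ⥤ᵇ 𝒳) (b : 𝒴' ⥤ᵇ 𝒴)
    (ha : FibCat.IsEquivOver a) (hb : FibCat.IsEquivOver b)
    (e : BasedFunctor.comp f' b ≅ BasedFunctor.comp a f) (G' : 𝒲 ⥤ᵇ 𝒴') :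
    ∃ Φ : FibCat.fp G' f' ⥤ᵇ FibCat.fp (BasedFunctor.comp G' b) f, FibCat.IsEquivOver Φ ∧
      BasedFunctor.comp Φ (FibCat.fpFst (BasedFunctor.comp G' b) f) = FibCat.fpFst G' f' ∧
      BasedFunctor.comp Φ (FibCat.fpSnd (BasedFunctor.comp G' b) f) =
        BasedFunctor.comp (FibCat.fpSnd G' f') a := by
  have := FibCatLib.isEquivalence_of_isEquivOver hb
  let eF : G'.toFunctor ⋙ b.toFunctor ≅
      (BasedFunctor.id 𝒲).toFunctor ⋙ (BasedFunctor.comp G' b).toFunctor := Iso.refl _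
  let eG : f'.toFunctor ⋙ b.toFunctor ≅ a.toFunctor ⋙ f.toFunctor :=
    (BasedNatTrans.forgetful _ _).mapIso e
  have heF : ∀ w, 𝒴.p.IsHomLift (𝟙 (𝒲.p.obj w)) (eF.hom.app w) := fun w =>
    FpInv.isHomLift_id' 𝒴 (b.obj (G'.obj w)) ((BasedFunctor.comp G' b).w_obj w)
  have heG : ∀ x, 𝒴.p.IsHomLift (𝟙 (𝒳'.p.obj x)) (eG.hom.app x) := fun x =>
    BasedNatTrans.isHomLift e.hom rfl
  exact ⟨FpMap.fpMap G' f' (BasedFunctor.comp G' b) f (BasedFunctor.id 𝒲) a b eF eG heF heG,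
    FpMap.fpMap_isEquivOver G' f' (BasedFunctor.comp G' b) f _ a b eF eG heF heG
      ReprInv.isEquivOver_id ha, rfl, rfl⟩

end Congr

section Main

variable {F G W : AlgSp.PSp S} {U : Over S}

/-- The category of a fibre product `h_U ×_G F` is the 2-fibre product `(Sch/U) ×_G F`, with both
projections. -/
theorem exists_equiv_ofPsh_fp_both (a : F ⟶ G) (y : FibCat.overCat U ⥤ᵇ Stk.ofPsh G)
    (ξ : ((AlgSp.yon S).obj U).obj ⟶ G)
    (θ : Stk.ofPshMap ξ ≅ BasedFunctor.comp (AlgSt.toOverCat U) y)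
    {fst : W ⟶ ((AlgSp.yon S).obj U).obj} {snd : W ⟶ F} (sq : IsPullback fst snd ξ a) :
    ∃ E : Stk.ofPsh W ⥤ᵇ FibCat.fp y (Stk.ofPshMap a), FibCat.IsEquivOver E ∧
      BasedFunctor.comp E (FibCat.fpFst y (Stk.ofPshMap a)) =
        BasedFunctor.comp (Stk.ofPshMap fst) (AlgSt.toOverCat U) ∧
      BasedFunctor.comp E (FibCat.fpSnd y (Stk.ofPshMap a)) = Stk.ofPshMap snd := by
  obtain ⟨Φ, hΦ, hΦ1, hΦ2⟩ := exists_equiv_fp_left (Stk.ofPshMap ξ) y (Stk.ofPshMap a)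
    (AlgSt.toOverCat U) (toOverCat_isEquivOver U) θ
  refine ⟨BasedFunctor.comp (fpCmp ξ a fst snd sq.w) Φ,
    ReprInv.isEquivOver_comp (fpCmp_isEquivOver sq) hΦ, ?_, ?_⟩
  · change BasedFunctor.comp (fpCmp ξ a fst snd sq.w)
      (BasedFunctor.comp Φ (FibCat.fpFst y (Stk.ofPshMap a))) = _
    rw [hΦ1]
    rfl
  · change BasedFunctor.comp (fpCmp ξ a fst snd sq.w)
      (BasedFunctor.comp Φ (FibCat.fpSnd y (Stk.ofPshMap a))) = _
    rw [hΦ2]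
    rfl

end Main

section Restrict

variable {U V : Over S}

/-- **Restriction of a representing space, with both projections.** -/
theorem exists_equiv_fp_overMap_both {𝒜 : BasedCategory.{v, w} (Over S)}
    (π : 𝒜 ⥤ᵇ FibCat.overCat U) {F : AlgSp.Sp S} (e : AlgSt.ofSp F ⥤ᵇ 𝒜)
    (he : FibCat.IsEquivOver e) (h : V ⟶ U) {X : AlgSp.Sp S} (toF : X ⟶ F)
    (toV : X ⟶ (AlgSp.yon S).obj V)
    (sq : IsPullback toF toV (AlgSt.spMapOfOver (BasedFunctor.comp e π)) ((AlgSp.yon S).map h)) :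
    ∃ E : AlgSt.ofSp X ⥤ᵇ FibCat.fp (AlgSt.overMap h) π, FibCat.IsEquivOver E ∧
      BasedFunctor.comp E (FibCat.fpFst (AlgSt.overMap h) π) =
        BasedFunctor.comp (AlgSt.ofSpMap toV) (AlgSt.toOverCat V) ∧
      BasedFunctor.comp E (FibCat.fpSnd (AlgSt.overMap h) π) =
        BasedFunctor.comp (AlgSt.ofSpMap toF) e := by
  let q : F ⟶ (AlgSp.yon S).obj U := AlgSt.spMapOfOver (BasedFunctor.comp e π)
  let ξ : ((AlgSp.yon S).obj V).obj ⟶ ((AlgSp.yon S).obj U).obj := ((AlgSp.yon S).map h).hom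
  let G' : FibCat.overCat V ⥤ᵇ AlgSt.ofSch U := ofSecMap ξ
  have sqP : IsPullback toV.hom toF.hom ξ q.hom :=
    (sq.flip.map (sheafToPresheaf (AlgSp.J S) (Type (u + 1))))
  obtain ⟨E₁, hE₁, hE₁fst, hE₁snd⟩ := exists_equiv_ofPsh_fp_both q.hom G' ξ (ofSecMapIso ξ) sqP
  obtain ⟨θq⟩ := ofSpMap_spMapOfOver_iso (BasedFunctor.comp e π)
  obtain ⟨Φ, hΦ, hΦfst, hΦsnd⟩ := exists_equiv_fp_square_both π (AlgSt.ofSpMap q) e
    (AlgSt.toOverCat U) he (toOverCat_isEquivOver U) θq G'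
  obtain ⟨Φ₂, hΦ₂, hΦ₂fst, hΦ₂snd⟩ := exists_equiv_fp_congr_both
    (BasedFunctor.comp G' (AlgSt.toOverCat U)) (AlgSt.overMap h) π (ofSecMapYonIso h)
  refine ⟨BasedFunctor.comp (BasedFunctor.comp E₁ Φ) Φ₂,
    ReprInv.isEquivOver_comp (ReprInv.isEquivOver_comp hE₁ hΦ) hΦ₂, ?_, ?_⟩
  · change BasedFunctor.comp E₁ (BasedFunctor.comp Φ
      (BasedFunctor.comp Φ₂ (FibCat.fpFst (AlgSt.overMap h) π))) = _
    rw [hΦ₂fst, hΦfst]
    exact hE₁fst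
  · change BasedFunctor.comp E₁ (BasedFunctor.comp Φ
      (BasedFunctor.comp Φ₂ (FibCat.fpSnd (AlgSt.overMap h) π))) = _
    rw [hΦ₂snd, hΦsnd]
    change BasedFunctor.comp (BasedFunctor.comp E₁ (FibCat.fpSnd G' (AlgSt.ofSpMap q))) e = _
    rw [hE₁snd]

end Restrict

end Groth.Agent.Helper2.AlgStLib.LocQ
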