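import Mathlib
import Groth.Prelude.Def_AlgSt4
import Groth.Prelude.Def_AlgSpCov
import Groth.Agent.Lib.Helper2.AlgSt.LocQ.Charts
import Groth.Agent.Lib.Helper2.AlgSt.LocQ.Dict2

/-!
# From one chart square to a chart of `𝒳 ×_𝒴 V` (helper2)
-/

set_option autoImplicit false
open CategoryTheory CategoryTheory.Functor CategoryTheory.Limits AlgebraicGeometry Opposite

universe u

namespace Groth.Agent.Helper2.AlgStLib.LocQ

open Groth.Agent.Helper2 Groth.Agent.Helper2.FibCatLib Groth.Agent.Helper2.StkLib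
open Groth.Agent.Helper2.AlgSpBasic Groth.Agent.Helper2.EtaleLocal
open Groth.Agent.Helper2.AlgStLib Groth.Agent.Helper2.AlgStLib.Pts

variable {S : Scheme.{u}} {𝒳 𝒴 𝒬 : BasedCategory.{u, u + 1} (Over S)}

/-- A property of a functor from an algebraic space to a scheme can be read on the map of
sheaves. -/
theorem prop_spMapOfOver_of_repByAlgSpWith (Q : MorphismProperty (AlgSp.Sp S))
    (hQ : RespectsIsoSp Q) (G : AlgSp.Space S) {V : Over S}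
    (Φ : AlgSt.ofSp G.obj ⥤ᵇ FibCat.overCat V) (hΦ : AlgSt.RepByAlgSpWith Q Φ) :
    Q (AlgSt.spMapOfOver Φ) := by
  let E : AlgSt.ofSp G.obj ⥤ᵇ FibCat.fp (BasedFunctor.id (FibCat.overCat V)) Φ :=
    BasedFunctor.comp (FpId.graphE Φ) (FpSwap.fpSwap Φ (BasedFunctor.id (FibCat.overCat V)))
  have hE : FibCat.IsEquivOver E :=
    ReprInv.isEquivOver_comp (FpId.graphE_isEquivOver _) (FpSwap.fpSwap_isEquivOver _ _)
  have h1 := (repOver_iff_of_rep' Q hQ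
    (FibCat.fpFst (BasedFunctor.id (FibCat.overCat V)) Φ) G E hE).1
    (hΦ V (BasedFunctor.id (FibCat.overCat V)))
  exact h1

/-- Precomposition with an equivalence does not change `RepByAlgSpWith`. -/
theorem repByAlgSpWith_equiv_comp (Q : MorphismProperty (AlgSp.Sp S))
    {𝒜 ℬ 𝒞 : BasedCategory.{u, u + 1} (Over S)} (e : 𝒜 ⥤ᵇ ℬ) (he : FibCat.IsEquivOver e)
    (g : ℬ ⥤ᵇ 𝒞) : AlgSt.RepByAlgSpWith Q (BasedFunctor.comp e g) ↔ AlgSt.RepByAlgSpWith Q g :=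
  (repByAlgSpWith_of_square Q g (BasedFunctor.comp e g) e (BasedFunctor.id 𝒞) he
    ReprInv.isEquivOver_id (Iso.refl _)).symm

section Bridge

variable (f : 𝒳 ⥤ᵇ 𝒴) {U₀ V₀ V : Over S} (x₀ : FibCat.overCat U₀ ⥤ᵇ 𝒳)
  (y₀ : FibCat.overCat V₀ ⥤ᵇ 𝒴) (h₀ : U₀ ⟶ V₀)
  (α₀ : BasedFunctor.comp x₀ f ≅ BasedFunctor.comp (AlgSt.overMap h₀) y₀)
  (y : FibCat.overCat V ⥤ᵇ 𝒴)

include α₀ in
/-- The functor `U₀ ×_{V₀} (V₀ ×_𝒴 V) ⟶ 𝒳 ×_𝒴 V` attached to a chart square; it is a base change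
of `x₀`, and it is compatible with the projections to `V`. -/
theorem exists_bridge :
    ∃ n : FibCat.fp (AlgSt.overMap h₀) (FibCat.fpFst y₀ y) ⥤ᵇ FibCat.fp f y,
      BasedFunctor.comp n (FibCat.fpSnd f y) =
        BasedFunctor.comp (FibCat.fpSnd (AlgSt.overMap h₀) (FibCat.fpFst y₀ y))
          (FibCat.fpSnd y₀ y) ∧
      ∀ Q : MorphismProperty (AlgSp.Sp S), AlgSt.RepByAlgSpWith Q x₀ →
        AlgSt.RepByAlgSpWith Q n := by
  obtain ⟨Φ, hΦ, -, hΦsnd⟩ := exists_equiv_fp_congr_both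
    (BasedFunctor.comp (AlgSt.overMap h₀) y₀) (BasedFunctor.comp x₀ f) y α₀.symm
  let a := BasedFunctor.comp (Paste.pasteB (AlgSt.overMap h₀) y₀ y) Φ
  have ha : FibCat.IsEquivOver a :=
    ReprInv.isEquivOver_comp (Paste.pasteB_isEquivOver (AlgSt.overMap h₀) y₀ y) hΦ
  refine ⟨BasedFunctor.comp a (FpBC.mapFst f y x₀), ?_, fun Q hQ => ?_⟩
  · change BasedFunctor.comp (Paste.pasteB (AlgSt.overMap h₀) y₀ y) (BasedFunctor.comp Φ
      (BasedFunctor.comp (FpBC.mapFst f y x₀) (FibCat.fpSnd f y))) = _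
    rw [FpBC.mapFst_snd, hΦsnd]
    rfl
  · exact (repByAlgSpWith_equiv_comp Q a ha _).2 (repByAlgSpWith_mapFst Q f y x₀ hQ)

end Bridge

section Main

variable {P : MorphismProperty (AlgSp.Sp S)} (hP : IsSmoothStable P)

include hP in
/-- **From a chart square to a chart over any smooth `V ⟶ 𝒴`.** If `f` has `P` on one chart
square with `x₀` smooth surjective and `y₀` smooth, then for every smooth `y : (Sch/V) ⟶ 𝒴` the
algebraic stack `𝒳 ×_𝒴 V` has a smooth surjective scheme chart `T` such that `T ⟶ V` has `P`. -/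
theorem exists_chart_of_square' (h𝒴 : AlgSt.IsAlgStack Scheme.fppfPrecoverage 𝒴)
    (f : 𝒳 ⥤ᵇ 𝒴) {U₀ V₀ : Over S} (x₀ : FibCat.overCat U₀ ⥤ᵇ 𝒳)
    (y₀ : FibCat.overCat V₀ ⥤ᵇ 𝒴) (h₀ : U₀ ⟶ V₀)
    (α₀ : BasedFunctor.comp x₀ f ≅ BasedFunctor.comp (AlgSt.overMap h₀) y₀)
    (hx₀ : Sm x₀) (hx₀' : Sj x₀) (hy₀ : Sm y₀) (hh₀ : P ((AlgSp.yon S).map h₀))
    {V : Over S} (y : FibCat.overCat V ⥤ᵇ 𝒴) (hy : Sm y) :
    ∃ (T : Over S) (c : FibCat.overCat T ⥤ᵇ FibCat.fp f y) (k : T ⟶ V),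
      Nonempty (BasedFunctor.comp c (FibCat.fpSnd f y) ≅ AlgSt.overMap k) ∧ Sm c ∧ Sj c ∧
        P ((AlgSp.yon S).map k) := by
  -- the algebraic space `G = V₀ ×_𝒴 V`
  obtain ⟨G, eG, heG, hg₀⟩ := hy V₀ y₀
  let g₀ : G.obj ⟶ (AlgSp.yon S).obj V₀ :=
    AlgSt.spMapOfOver (BasedFunctor.comp eG (FibCat.fpFst y₀ y))
  let gV : G.obj ⟶ (AlgSp.yon S).obj V :=
    AlgSt.spMapOfOver (BasedFunctor.comp eG (FibCat.fpSnd y₀ y))
  have hgV : AlgSp.LocP @Smooth gV :=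
    prop_spMapOfOver_of_repByAlgSpWith _ (respectsIsoSp_of_stableBC (stableBC_locP _)) G _
      ((repByAlgSpWith_equiv_comp _ eG heG _).2 (repByAlgSpWith_fpSnd _ y₀ y hy₀))
  -- the algebraic space `X = U₀ ×_{V₀} G`
  let X : AlgSp.Sp S := pullback ((AlgSp.yon S).map h₀) g₀
  let pX₁ : X ⟶ (AlgSp.yon S).obj U₀ := pullback.fst _ _
  let pX₂ : X ⟶ G.obj := pullback.snd _ _
  have sq : IsPullback pX₁ pX₂ ((AlgSp.yon S).map h₀) g₀ := IsPullback.of_hasPullback _ _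
  have hU₀ := AlgSp.IsAlgSpace.yon_obj U₀
  have hV₀ := AlgSp.IsAlgSpace.yon_obj V₀
  have hV := AlgSp.IsAlgSpace.yon_obj V
  have hX : AlgSp.IsAlgSpace X :=
    isAlgSpace_of_isPullback hV₀.diag hU₀ G.property _ _ _ _ sq
  have hp2 : P pX₂ := hP.baseChange hU₀ hV₀ hX G.property _ g₀ pX₂ pX₁ sq hg₀ hh₀
  have hp3 : P (pX₂ ≫ gV) := hP.postcomp hX G.property hV _ _ hp2 hgV
  -- `X` represents `U₀ ×_{V₀} (V₀ ×_𝒴 V)`
  obtain ⟨EX, hEX, -, hEXsnd⟩ := exists_equiv_fp_overMap_both (FibCat.fpFst y₀ y) eG heG h₀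
    pX₂ pX₁ sq.flip
  obtain ⟨n, hn, hnQ⟩ := exists_bridge f x₀ y₀ h₀ α₀ y
  -- a scheme atlas of `X`
  obtain ⟨T, xT, hxT1, hxT2⟩ := (hasAtlas_ofSp ⟨X, hX⟩).2
  have hfT : FibCat.IsFibGrpd (FibCat.overCat T).p := isFibGrpd_overCat T
  have hfX : FibCat.IsFibGrpd (AlgSt.ofSp X).p := Stk.isFibGrpd_ofPsh X.obj
  let m : AlgSt.ofSp X ⥤ᵇ FibCat.fp f y := BasedFunctor.comp EX n
  have hm1 : Sm m := (repByAlgSpWith_equiv_comp _ EX hEX n).2 (hnQ _ hx₀)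
  have hm2 : Sj m := (repByAlgSpWith_equiv_comp _ EX hEX n).2 (hnQ _ hx₀')
  let c : FibCat.overCat T ⥤ᵇ FibCat.fp f y := BasedFunctor.comp xT m
  let Ψ : FibCat.overCat T ⥤ᵇ FibCat.overCat V := BasedFunctor.comp c (FibCat.fpSnd f y)
  obtain ⟨θ⟩ := nonempty_iso_overMap_classify Ψ
  refine ⟨T, c, OverFun.classify Ψ, ⟨θ⟩, sm_comp hfT hfX _ _ hxT1 hm1,
    sj_comp hfT hfX _ _ hxT2 hm2, ?_⟩
  -- the map `h_T ⟶ X`
  let τ : (AlgSp.yon S).obj T ⟶ X := ObjectProperty.homMk (secMap xT)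
  have hτ : AlgSp.LocP @Smooth τ :=
    prop_secMap_of_repByAlgSpWith _ (stableBC_locP _)
      (atlasLocal_of_fppf isLocalOnBase_fppf_locP_smooth) hX xT hxT1
  have hp4 : P (τ ≫ pX₂ ≫ gV) :=
    hP.precomp (AlgSp.IsAlgSpace.yon_obj T) hX hV τ _ hτ hp3
  -- identify the composite
  have hΨ : BasedFunctor.comp (AlgSt.toOverCat T) Ψ =
      BasedFunctor.comp (BasedFunctor.comp (AlgSt.toOverCat T) xT)
        (BasedFunctor.comp (AlgSt.ofSpMap pX₂)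
          (BasedFunctor.comp eG (FibCat.fpSnd y₀ y))) := by
    change BasedFunctor.comp (AlgSt.toOverCat T) (BasedFunctor.comp xT (BasedFunctor.comp EX
      (BasedFunctor.comp n (FibCat.fpSnd f y)))) = _
    rw [hn]
    change BasedFunctor.comp (AlgSt.toOverCat T) (BasedFunctor.comp xT (BasedFunctor.comp
      (BasedFunctor.comp EX (FibCat.fpSnd (AlgSt.overMap h₀) (FibCat.fpFst y₀ y)))
      (FibCat.fpSnd y₀ y))) = _
    rw [hEXsnd]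
    rfl
  have key : (AlgSp.yon S).map (OverFun.classify Ψ) = τ ≫ pX₂ ≫ gV := by
    rw [← spMapOfOver_toOverCat_overMap]
    have h1 : AlgSt.spMapOfOver (BasedFunctor.comp (AlgSt.toOverCat T)
        (AlgSt.overMap (OverFun.classify Ψ))) =
        AlgSt.spMapOfOver (BasedFunctor.comp (AlgSt.toOverCat T) Ψ) :=
      spMapOfOver_congr (BasedCategory.whiskerLeft (AlgSt.toOverCat T) θ.inv)
    rw [h1, hΨ, spMapOfOver_comp, spMapOfOver_comp]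
    congr 1
    congr 1
    apply ObjectProperty.hom_ext
    exact mapOfFunctor_ofPshMap pX₂.hom
  rw [key]
  exact hp4

theorem exists_chart_of_square {P : MorphismProperty (AlgSp.Sp S)} (hP : AlgSp.IsSmoothLocalST P)
    (h𝒴 : AlgSt.IsAlgStack Scheme.fppfPrecoverage 𝒴)
    (f : 𝒳 ⥤ᵇ 𝒴) {U₀ V₀ : Over S} (x₀ : FibCat.overCat U₀ ⥤ᵇ 𝒳)
    (y₀ : FibCat.overCat V₀ ⥤ᵇ 𝒴) (h₀ : U₀ ⟶ V₀)
    (α₀ : BasedFunctor.comp x₀ f ≅ BasedFunctor.comp (AlgSt.overMap h₀) y₀)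
    (hx₀ : Sm x₀) (hx₀' : Sj x₀) (hy₀ : Sm y₀) (hh₀ : P ((AlgSp.yon S).map h₀))
    {V : Over S} (y : FibCat.overCat V ⥤ᵇ 𝒴) (hy : Sm y) :
    ∃ (T : Over S) (c : FibCat.overCat T ⥤ᵇ FibCat.fp f y) (k : T ⟶ V),
      Nonempty (BasedFunctor.comp c (FibCat.fpSnd f y) ≅ AlgSt.overMap k) ∧ Sm c ∧ Sj c ∧
        P ((AlgSp.yon S).map k) :=
  exists_chart_of_square' (IsSmoothStable.of_local hP) h𝒴 f x₀ y₀ h₀ α₀ hx₀ hx₀' hy₀ hh₀ y hy

end Main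

end Groth.Agent.Helper2.AlgStLib.LocQ
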