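import Mathlib
import Groth.Prelude.Def_AlgSt4
import Groth.Prelude.Def_AlgSpCov
import Groth.Agent.Lib.Helper2.AlgSt.LocQ.Crux

/-!
# Independence of the chart square (helper2)
-/

set_option autoImplicit false
open CategoryTheory CategoryTheory.Functor CategoryTheory.Limits AlgebraicGeometry Opposite

universe u

namespace Groth.Agent.Helper2.AlgStLib.LocQ

open Groth.Agent.Helper2 Groth.Agent.Helper2.FibCatLib Groth.Agent.Helper2.StkLib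
open Groth.Agent.Helper2.AlgSpBasic Groth.Agent.Helper2.EtaleLocal
open Groth.Agent.Helper2.AlgStLib Groth.Agent.Helper2.AlgStLib.Pts

section Lift

universe w₁ w₂ w₃ w₄ t₁ t₂ t₃ t₄ v' u'

variable {C : Type u'} [Category.{v'} C]
variable {𝒳 : BasedCategory.{w₁, t₁} C} {𝒴 : BasedCategory.{w₂, t₂} C}
  {𝒮 : BasedCategory.{w₃, t₃} C} {𝒲 : BasedCategory.{w₄, t₄} C}
  {F : 𝒳 ⥤ᵇ 𝒮} {G : 𝒴 ⥤ᵇ 𝒮}

/-- Changing the second component of a lift into a 2-fibre product by a 2-isomorphism. -/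
def fpLiftCongr (a : 𝒲 ⥤ᵇ 𝒳) (b b' : 𝒲 ⥤ᵇ 𝒴)
    (e : BasedFunctor.comp a F ≅ BasedFunctor.comp b G) (θ : b ≅ b') :
    FibCat.fpLift a b e ≅ FibCat.fpLift a b' (e ≪≫ (postF _ G).mapIso θ) :=
  BasedNatIso.mkNatIso
    (NatIso.ofComponents
      (fun A => ObjectProperty.isoMk _ (CategoricalPullback.mkIso (Iso.refl _)
        (((BasedNatTrans.forgetful _ _).mapIso θ).app A) (by
          change F.map (𝟙 _) ≫ (e.hom.toNatTrans.app A ≫ G.map (θ.hom.toNatTrans.app A)) =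
            e.hom.toNatTrans.app A ≫ G.map (θ.hom.toNatTrans.app A)
          rw [F.toFunctor.map_id]
          exact Category.id_comp _)))
      (by
        intro A B m
        apply ObjectProperty.hom_ext
        apply CategoricalPullback.hom_ext
        · exact (Category.comp_id _).trans (Category.id_comp _).symm
        · exact θ.hom.toNatTrans.naturality m))
    (by
      intro A
      apply fp_isHomLift_of_fst
      have h : 𝒳.p.IsHomLift (𝟙 (𝒳.p.obj (a.obj A))) (𝟙 (a.obj A)) := IsHomLift.id rfl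
      exact isHomLift_id_cast _ (a.w_obj A) _ h)

/-- Every functor into a 2-fibre product is the lift of its two projections. -/
theorem fpLift_self (c : 𝒲 ⥤ᵇ FibCat.fp F G) :
    FibCat.fpLift (BasedFunctor.comp c (FibCat.fpFst F G)) (BasedFunctor.comp c (FibCat.fpSnd F G))
      (whiskerLeftIso c (FibCat.fpIso F G)) = c := rfl

end Lift

variable {S : Scheme.{u}} {𝒳 𝒴 : BasedCategory.{u, u + 1} (Over S)}

variable {P : MorphismProperty (AlgSp.Sp S)} (hP : AlgSp.IsSmoothLocalST P)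

include hP in
/-- (⇒) of `S12990`. -/
theorem prop_of_locQ (h𝒳 : AlgSt.IsAlgStack Scheme.fppfPrecoverage 𝒳)
    (h𝒴 : AlgSt.IsAlgStack Scheme.fppfPrecoverage 𝒴) (f : 𝒳 ⥤ᵇ 𝒴) (hf : AlgSt.LocQ P f)
    {U V : Over S} (y : FibCat.overCat V ⥤ᵇ 𝒴) (hy : Sm y)
    (c : FibCat.overCat U ⥤ᵇ FibCat.fp f y) (hc : Sm c) (h : U ⟶ V)
    (e : BasedFunctor.comp c (FibCat.fpSnd f y) ≅ AlgSt.overMap h) :
    P ((AlgSp.yon S).map h) := by
  obtain ⟨U₀, V₀, x₀, y₀, h₀, α₀, hx₀, hx₀', hy₀, hh₀⟩ := hf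
  obtain ⟨T, cT, k, ⟨θ⟩, h1, h2, h3⟩ :=
    exists_chart_of_square hP h𝒴 f x₀ y₀ h₀ α₀ hx₀ hx₀' hy₀ hh₀ y hy
  have h𝒬 : AlgSt.IsAlgStack Scheme.fppfPrecoverage (FibCat.fp f y) :=
    isAlgStack_fp _ h𝒳 (isAlgStack_overCat V) h𝒴 f y
  exact prop_of_chart hP h𝒬 (FibCat.fpSnd f y) cT k θ h1 h2 h3 c h e hc

include hP in
theorem prop_of_locQ_square (h𝒳 : AlgSt.IsAlgStack Scheme.fppfPrecoverage 𝒳)
    (h𝒴 : AlgSt.IsAlgStack Scheme.fppfPrecoverage 𝒴) (f : 𝒳 ⥤ᵇ 𝒴) (hf : AlgSt.LocQ P f)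
    {U V : Over S} (x : FibCat.overCat U ⥤ᵇ 𝒳) (y : FibCat.overCat V ⥤ᵇ 𝒴) (h : U ⟶ V)
    (α : BasedFunctor.comp x f ≅ BasedFunctor.comp (AlgSt.overMap h) y) (hy : Sm y)
    (hc : Sm (FibCat.fpLift x (AlgSt.overMap h) α)) : P ((AlgSp.yon S).map h) :=
  prop_of_locQ hP h𝒳 h𝒴 f hf y hy _ hc h (Iso.refl _)

/-- A canonical chart square: a smooth chart `y` of `𝒴` and a smooth chart `c` of `𝒳 ×_𝒴 V`. -/
theorem exists_good_square (h𝒳 : AlgSt.IsAlgStack Scheme.fppfPrecoverage 𝒳)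
    (h𝒴 : AlgSt.IsAlgStack Scheme.fppfPrecoverage 𝒴) (f : 𝒳 ⥤ᵇ 𝒴) {U V : Over S}
    (y : FibCat.overCat V ⥤ᵇ 𝒴) (hy : Sm y) (c : FibCat.overCat U ⥤ᵇ FibCat.fp f y) (hc : Sm c) :
    ∃ (h : U ⟶ V) (α : BasedFunctor.comp (BasedFunctor.comp c (FibCat.fpFst f y)) f ≅
        BasedFunctor.comp (AlgSt.overMap h) y),
      Nonempty (BasedFunctor.comp c (FibCat.fpSnd f y) ≅ AlgSt.overMap h) ∧
      Sm (BasedFunctor.comp c (FibCat.fpFst f y)) ∧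
      Sm (FibCat.fpLift (BasedFunctor.comp c (FibCat.fpFst f y)) (AlgSt.overMap h) α) ∧
      (Sj y → Sj c → Sj (BasedFunctor.comp c (FibCat.fpFst f y))) := by
  have h𝒬 : AlgSt.IsAlgStack Scheme.fppfPrecoverage (FibCat.fp f y) :=
    isAlgStack_fp _ h𝒳 (isAlgStack_overCat V) h𝒴 f y
  have hU : FibCat.IsFibGrpd (FibCat.overCat U).p := isFibGrpd_overCat U
  let Ψ : FibCat.overCat U ⥤ᵇ FibCat.overCat V := BasedFunctor.comp c (FibCat.fpSnd f y)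
  obtain ⟨θ⟩ := nonempty_iso_overMap_classify Ψ
  let e₀ := whiskerLeftIso c (FibCat.fpIso f y)
  refine ⟨OverFun.classify Ψ, e₀ ≪≫ (postF _ y).mapIso θ, ⟨θ⟩, ?_, ?_, ?_⟩
  · exact sm_comp hU h𝒬.isStack.1 _ _ hc (repByAlgSpWith_fpFst _ y f hy)
  · have i := fpLiftCongr (BasedFunctor.comp c (FibCat.fpFst f y)) Ψ
      (AlgSt.overMap (OverFun.classify Ψ)) e₀ θ
    rw [fpLift_self] at i
    exact (repByAlgSpWith_congr _ i.symm).1 hc
  · intro hy' hc'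
    exact sj_comp hU h𝒬.isStack.1 _ _ hc' (repByAlgSpWith_fpFst _ y f hy')

include hP in
/-- `S12990`. -/
theorem locQ_iff_forall_good_squares (h𝒳 : AlgSt.IsAlgStack Scheme.fppfPrecoverage 𝒳)
    (h𝒴 : AlgSt.IsAlgStack Scheme.fppfPrecoverage 𝒴) (f : 𝒳 ⥤ᵇ 𝒴) :
    AlgSt.LocQ P f ↔
      ∀ (U V : Over S) (x : FibCat.overCat U ⥤ᵇ 𝒳) (y : FibCat.overCat V ⥤ᵇ 𝒴) (h : U ⟶ V)
        (α : BasedFunctor.comp x f ≅ BasedFunctor.comp (AlgSt.overMap h) y),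
        Sm x → Sm y → Sm (FibCat.fpLift x (AlgSt.overMap h) α) → P ((AlgSp.yon S).map h) := by
  constructor
  · intro hf U V x y h α _ hy hc
    exact prop_of_locQ_square hP h𝒳 h𝒴 f hf x y h α hy hc
  · intro H
    obtain ⟨V, y, hy1, hy2⟩ := h𝒴.atlas
    have h𝒬 : AlgSt.IsAlgStack Scheme.fppfPrecoverage (FibCat.fp f y) :=
      isAlgStack_fp _ h𝒳 (isAlgStack_overCat V) h𝒴 f y
    obtain ⟨U, c, hc1, hc2⟩ := h𝒬.atlas
    obtain ⟨h, α, -, hx, hl, hs⟩ := exists_good_square h𝒳 h𝒴 f y hy1 c hc1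
    exact ⟨U, V, _, y, h, α, hx, hs hy2 hc2, hy1, H U V _ y h α hx hy1 hl⟩

end Groth.Agent.Helper2.AlgStLib.LocQ
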