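import Mathlib
import Groth.Prelude.Def_AlgSt4
import Groth.Prelude.Def_AlgSpCov
import Groth.Agent.Lib.Helper2.AlgSt.LocQ.Main

/-!
# Chart squares and representable morphisms (helper2)
-/

set_option autoImplicit false
open CategoryTheory CategoryTheory.Functor CategoryTheory.Limits AlgebraicGeometry Opposite

universe u

namespace Groth.Agent.Helper2.AlgStLib.LocQ

open Groth.Agent.Helper2 Groth.Agent.Helper2.FibCatLib Groth.Agent.Helper2.StkLib
open Groth.Agent.Helper2.AlgSpBasic Groth.Agent.Helper2.EtaleLocal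
open Groth.Agent.Helper2.AlgStLib Groth.Agent.Helper2.AlgStLib.Pts

variable {S : Scheme.{u}} {𝒳 𝒴 : BasedCategory.{u, u + 1} (Over S)}

/-- Every functor from a scheme to an algebraic stack is representable by algebraic spaces. -/
theorem repByAlgSp1_chart (h𝒳 : AlgSt.IsAlgStack Scheme.fppfPrecoverage 𝒳) {U : Over S}
    (x : FibCat.overCat U ⥤ᵇ 𝒳) : AlgSt.RepByAlgSp1 x :=
  (Groth.Agent.S12765.result h𝒳.isStack.1).1 h𝒳.diag U x

section Construct

variable {P : MorphismProperty (AlgSp.Sp S)}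

/-- `f` has `P` on a chart square as soon as `P` holds for one smooth surjective chart `y` of `𝒴`
and one smooth surjective chart `c` of `𝒳 ×_𝒴 V`. -/
theorem locQ_of_chart (h𝒳 : AlgSt.IsAlgStack Scheme.fppfPrecoverage 𝒳)
    (h𝒴 : AlgSt.IsAlgStack Scheme.fppfPrecoverage 𝒴) (f : 𝒳 ⥤ᵇ 𝒴) {U V : Over S}
    (y : FibCat.overCat V ⥤ᵇ 𝒴) (hy : Sm y) (hy' : Sj y)
    (c : FibCat.overCat U ⥤ᵇ FibCat.fp f y) (hc : Sm c) (hc' : Sj c) (h : U ⟶ V)
    (e : BasedFunctor.comp c (FibCat.fpSnd f y) ≅ AlgSt.overMap h)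
    (hh : P ((AlgSp.yon S).map h)) : AlgSt.LocQ P f := by
  obtain ⟨h', α, ⟨θ⟩, hx, -, hs⟩ := exists_good_square h𝒳 h𝒴 f y hy c hc
  have : h' = h := eq_of_overMap_iso (θ.symm ≪≫ e)
  subst this
  exact ⟨U, V, _, y, h', α, hx, hs hy' hc', hy, hh⟩

end Construct

section Atlas

variable (P : MorphismProperty (AlgSp.Sp S)) (hPb : StableBC P)

include hPb in
/-- A functor to a scheme from a category representable by an algebraic space has `P` as soon as
the corresponding map of algebraic spaces has `P`. -/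
theorem repByAlgSpWith_of_repOver {𝒜 : BasedCategory.{u, u + 1} (Over S)} {V : Over S}
    (π : 𝒜 ⥤ᵇ FibCat.overCat V) (h : RepOver P 𝒜 π) : AlgSt.RepByAlgSpWith P π := by
  obtain ⟨F, e, he, hP⟩ := h
  obtain ⟨θ⟩ := ofSpMap_spMapOfOver_iso (BasedFunctor.comp e π)
  exact repByAlgSpWith_of_both P hPb F ⟨(AlgSp.yon S).obj V, AlgSp.IsAlgSpace.yon_obj V⟩ e he
    (AlgSt.toOverCat V) (toOverCat_isEquivOver V) π _ θ hP

theorem isFppfCover_single_smooth {W T : Over S} (a : W ⟶ T) [Smooth a.left]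
    [Surjective a.left] :
    AlgSp.IsFppfCover (fun _ : PUnit.{u + 1} => (AlgSp.yon S).obj W)
      (fun _ => (AlgSp.yon S).map a) := by
  refine ⟨fun _ => ⟨?_, ?_⟩, fun x => ?_⟩
  · exact locP_of_repWith @Flat (AlgSp.IsAlgSpace.yon_obj W).diag _
      ((AlgSp.repWith_yon_map_iff @Flat a).2 inferInstance)
  · exact locP_of_repWith @LocallyOfFinitePresentation (AlgSp.IsAlgSpace.yon_obj W).diag _
      ((AlgSp.repWith_yon_map_iff @LocallyOfFinitePresentation a).2 inferInstance)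
  · obtain ⟨v, hv⟩ := (surjectiveMor_yon_map_iff a).2 (Surjective.surj (f := a.left)) x
    exact ⟨PUnit.unit, v, hv⟩

include hPb in
/-- **Locality on a smooth atlas of the target.** A functor representable by algebraic spaces has
`P` as soon as its base change to one smooth surjective chart of the target has `P`. -/
theorem repByAlgSpWith_of_atlas (hPl : AlgSp.IsLocalOnBase AlgSp.IsFppfCover P)
    (h𝒴 : AlgSt.IsAlgStack Scheme.fppfPrecoverage 𝒴) (f : 𝒳 ⥤ᵇ 𝒴) (hf : AlgSt.RepByAlgSp1 f)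
    {V : Over S} (y : FibCat.overCat V ⥤ᵇ 𝒴) (hy : Sm y) (hy' : Sj y)
    (h : RepOver P (FibCat.fp y f) (FibCat.fpFst y f)) : AlgSt.RepByAlgSpWith P f := by
  rw [repByAlgSpWith_iff]
  intro T t
  obtain ⟨W, a₁, a₂, ⟨ω⟩, -, -, ha2, ha2'⟩ := exists_common_chart h𝒴 y t
  have : Smooth a₂.left := ha2 hy
  have : Surjective a₂.left := ha2' hy'
  refine repOver_of_cover P hPb hPl (FibCat.fpFst t f) (hf T t)
    (fun _ : PUnit.{u + 1} => W) (fun _ => a₂) (isFppfCover_single_smooth a₂) (fun _ => ?_)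
  -- the base change to `W` through `V`
  have h1 : RepOver P (FibCat.fp (AlgSt.overMap a₁) (FibCat.fpFst y f))
      (FibCat.fpFst (AlgSt.overMap a₁) (FibCat.fpFst y f)) :=
    (repByAlgSpWith_iff P _).1 (repByAlgSpWith_of_repOver P hPb (FibCat.fpFst y f) h) W
      (AlgSt.overMap a₁)
  have h2 : RepOver P (FibCat.fp (BasedFunctor.comp (AlgSt.overMap a₁) y) f)
      (FibCat.fpFst (BasedFunctor.comp (AlgSt.overMap a₁) y) f) :=
    (repOver_iff_of_equiv P (FibCat.fpFst (AlgSt.overMap a₁) (FibCat.fpFst y f))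
      (FibCat.fpFst (BasedFunctor.comp (AlgSt.overMap a₁) y) f)
      (Paste.pasteB (AlgSt.overMap a₁) y f)
      (Paste.pasteB_isEquivOver (AlgSt.overMap a₁) y f) (Iso.refl _)).1 h1
  obtain ⟨Φ, hΦ, hΦfst⟩ := exists_equiv_fp_congr_fst (BasedFunctor.comp (AlgSt.overMap a₁) y)
    (BasedFunctor.comp (AlgSt.overMap a₂) t) f ω
  have h3 : RepOver P (FibCat.fp (BasedFunctor.comp (AlgSt.overMap a₂) t) f)
      (FibCat.fpFst (BasedFunctor.comp (AlgSt.overMap a₂) t) f) :=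
    (repOver_iff_of_equiv P (FibCat.fpFst (BasedFunctor.comp (AlgSt.overMap a₁) y) f)
      (FibCat.fpFst (BasedFunctor.comp (AlgSt.overMap a₂) t) f) Φ hΦ (eqToIso hΦfst)).1 h2
  exact (repOver_iff_of_equiv P (FibCat.fpFst (AlgSt.overMap a₂) (FibCat.fpFst t f))
    (FibCat.fpFst (BasedFunctor.comp (AlgSt.overMap a₂) t) f)
    (Paste.pasteB (AlgSt.overMap a₂) t f)
    (Paste.pasteB_isEquivOver (AlgSt.overMap a₂) t f) (Iso.refl _)).2 h3

end Atlas

section Representable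

/-- A scheme chart of `𝒳 ×_𝒴 V` out of an algebraic space representing `V ×_𝒴 𝒳`. -/
theorem exists_chart_of_rep (f : 𝒳 ⥤ᵇ 𝒴) {V : Over S} (y : FibCat.overCat V ⥤ᵇ 𝒴)
    (F : AlgSp.Space S) (e : AlgSt.ofSp F.obj ⥤ᵇ FibCat.fp y f) (he : FibCat.IsEquivOver e) :
    ∃ (U : Over S) (c : FibCat.overCat U ⥤ᵇ FibCat.fp f y) (h : U ⟶ V)
      (τ : (AlgSp.yon S).obj U ⟶ F.obj),
      Nonempty (BasedFunctor.comp c (FibCat.fpSnd f y) ≅ AlgSt.overMap h) ∧ Sm c ∧ Sj c ∧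
      AlgSp.LocP @Smooth τ ∧ AlgSp.IsSurjectiveMor τ ∧
      (AlgSp.yon S).map h = τ ≫ AlgSt.spMapOfOver (BasedFunctor.comp e (FibCat.fpFst y f)) := by
  obtain ⟨U, c₀, hc1, hc2⟩ := (hasAtlas_ofSp F).2
  let e' : AlgSt.ofSp F.obj ⥤ᵇ FibCat.fp f y := BasedFunctor.comp e (FpSwap.fpSwap y f)
  have he' : FibCat.IsEquivOver e' :=
    ReprInv.isEquivOver_comp he (FpSwap.fpSwap_isEquivOver y f)
  let c : FibCat.overCat U ⥤ᵇ FibCat.fp f y := BasedFunctor.comp c₀ e'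
  have hc : Sm c := (repByAlgSpWith_comp_equiv _ c₀ e' he').2 hc1
  have hc' : Sj c := (repByAlgSpWith_comp_equiv _ c₀ e' he').2 hc2
  let Ψ : FibCat.overCat U ⥤ᵇ FibCat.overCat V := BasedFunctor.comp c (FibCat.fpSnd f y)
  obtain ⟨θ⟩ := nonempty_iso_overMap_classify Ψ
  let τ : (AlgSp.yon S).obj U ⟶ F.obj := ObjectProperty.homMk (secMap c₀)
  have hτ1 : AlgSp.LocP @Smooth τ :=
    prop_secMap_of_repByAlgSpWith _ (stableBC_locP _)
      (atlasLocal_of_fppf isLocalOnBase_fppf_locP_smooth) F.property c₀ hc1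
  have hτ2 : AlgSp.IsSurjectiveMor τ :=
    prop_secMap_of_repByAlgSpWith _ stableBC_isSurjectiveMor
      (atlasLocal_of_fppf isLocalOnBase_fppf_isSurjectiveMor) F.property c₀ hc2
  refine ⟨U, c, OverFun.classify Ψ, τ, ⟨θ⟩, hc, hc', hτ1, hτ2, ?_⟩
  rw [← spMapOfOver_toOverCat_overMap]
  have h2 : AlgSt.spMapOfOver (BasedFunctor.comp (AlgSt.toOverCat U)
      (AlgSt.overMap (OverFun.classify Ψ))) =
      AlgSt.spMapOfOver (BasedFunctor.comp (AlgSt.toOverCat U) Ψ) :=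
    spMapOfOver_congr (BasedCategory.whiskerLeft (AlgSt.toOverCat U) θ.inv)
  rw [h2]
  exact spMapOfOver_comp (BasedFunctor.comp (AlgSt.toOverCat U) c₀)
    (BasedFunctor.comp e (FibCat.fpFst y f))

variable {P : MorphismProperty (AlgSp.Sp S)} (hP : AlgSp.IsSmoothLocalST P)

include hP in
/-- For `f` representable by algebraic spaces: if `f` has `P` on a chart square, then for every
smooth chart `y` of the target the map of algebraic spaces representing `V ×_𝒴 𝒳 ⟶ V` has `P`. -/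
theorem prop_spMapOfOver_of_locQ
    (h𝒳 : AlgSt.IsAlgStack Scheme.fppfPrecoverage 𝒳)
    (h𝒴 : AlgSt.IsAlgStack Scheme.fppfPrecoverage 𝒴) (f : 𝒳 ⥤ᵇ 𝒴) (hq : AlgSt.LocQ P f)
    {V : Over S} (y : FibCat.overCat V ⥤ᵇ 𝒴) (hy : Sm y) (F : AlgSp.Space S)
    (e : AlgSt.ofSp F.obj ⥤ᵇ FibCat.fp y f) (he : FibCat.IsEquivOver e) :
    P (AlgSt.spMapOfOver (BasedFunctor.comp e (FibCat.fpFst y f))) := by
  obtain ⟨U, c, h, τ, ⟨θ⟩, hc, -, hτ1, hτ2, key⟩ := exists_chart_of_rep f y F e he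
  have h1 : P ((AlgSp.yon S).map h) := prop_of_locQ hP h𝒳 h𝒴 f hq y hy c hc _ θ
  rw [key] at h1
  exact prop_of_smooth_cover hP (AlgSp.IsAlgSpace.yon_obj U) F.property
    (AlgSp.IsAlgSpace.yon_obj V) τ _ hτ1 hτ2 h1

include hP in
/-- `S12993`. -/
theorem locQ_iff_repByAlgSpWith (hPb : StableBC P)
    (hPl : AlgSp.IsLocalOnBase AlgSp.IsFppfCover P)
    (h𝒳 : AlgSt.IsAlgStack Scheme.fppfPrecoverage 𝒳)
    (h𝒴 : AlgSt.IsAlgStack Scheme.fppfPrecoverage 𝒴) (f : 𝒳 ⥤ᵇ 𝒴) (hf : AlgSt.RepByAlgSp1 f) :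
    AlgSt.LocQ P f ↔ AlgSt.RepByAlgSpWith P f := by
  obtain ⟨V, y, hy1, hy2⟩ := h𝒴.atlas
  constructor
  · intro hq
    obtain ⟨F, e, he⟩ := hf V y
    exact repByAlgSpWith_of_atlas P hPb hPl h𝒴 f hf y hy1 hy2
      ⟨F, e, he, prop_spMapOfOver_of_locQ hP h𝒳 h𝒴 f hq y hy1 F e he⟩
  · intro hf'
    obtain ⟨F, e, he, hb⟩ := hf' V y
    obtain ⟨U, c, h, τ, ⟨θ⟩, hc, hc', hτ1, -, key⟩ := exists_chart_of_rep f y F e he
    refine locQ_of_chart h𝒳 h𝒴 f y hy1 hy2 c hc hc' h θ ?_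
    rw [key]
    exact hP.precomp (AlgSp.IsAlgSpace.yon_obj U) F.property (AlgSp.IsAlgSpace.yon_obj V) τ _
      hτ1 hb

end Representable

end Groth.Agent.Helper2.AlgStLib.LocQ
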