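import Mathlib
import Groth.Prelude.Def_AlgSt4
import Groth.Prelude.Def_AlgSpCov
import Groth.Agent.Lib.Helper2.AlgSt.LocQ.Rep
import Groth.Agent.Lib.Helper2.AlgSp.SmoothLocalP
import Groth.Agent.Lib.Helper2.AlgSt.RepDiagApps3

/-!
# Chart squares for flat, locally finite type and locally finitely presented morphisms (helper2)
-/

set_option autoImplicit false
open CategoryTheory CategoryTheory.Functor CategoryTheory.Limits AlgebraicGeometry Opposite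

universe u

namespace Groth.Agent.Helper2.AlgStLib.LocQ

open Groth.Agent.Helper2 Groth.Agent.Helper2.FibCatLib Groth.Agent.Helper2.StkLib
open Groth.Agent.Helper2.AlgSpBasic Groth.Agent.Helper2.EtaleLocal
open Groth.Agent.Helper2.AlgStLib Groth.Agent.Helper2.AlgStLib.Pts

variable {S : Scheme.{u}} {𝒳 𝒴 𝒵 : BasedCategory.{u, u + 1} (Over S)}

theorem locP_yon_map_iff (Q : MorphismProperty Scheme.{u}) [IsEtaleLocalST Q] {U V : Over S}
    (h : U ⟶ V) : AlgSp.LocP Q ((AlgSp.yon S).map h) ↔ Q h.left := by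
  constructor
  · intro hf
    exact hf (𝟙 _) (𝟙 _) h (repWith_etale_id U) (repWith_etale_id V)
      (by rw [Category.id_comp, Category.comp_id])
  · intro hh
    exact locP_of_repWith Q (AlgSp.IsAlgSpace.yon_obj U).diag _
      ((AlgSp.repWith_yon_map_iff Q h).2 hh)

theorem isLocalOnBase_fppf_locP (Q : MorphismProperty Scheme.{u}) [IsEtaleLocalST Q]
    [IsZariskiLocalAtTarget Q] [Q.DescendsAlong (@Surjective ⊓ @Flat ⊓ @QuasiCompact)] :
    AlgSp.IsLocalOnBase (AlgSp.IsFppfCover (S := S)) (AlgSp.LocP Q) :=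
  isLocalOnBase_fppf_of_fpqc (isLocalOnBase_fpqc_locP Q)

/-- `S13008`: flat and locally finitely presented morphisms of algebraic stacks are open. -/
theorem isOpenMor_of_flat_of_lfp (h𝒳 : AlgSt.IsAlgStack Scheme.fppfPrecoverage 𝒳)
    (h𝒴 : AlgSt.IsAlgStack Scheme.fppfPrecoverage 𝒴) (f : 𝒳 ⥤ᵇ 𝒴)
    (h1 : AlgSt.LocQ (AlgSp.LocP @Flat) f)
    (h2 : AlgSt.LocQ (AlgSp.LocP @LocallyOfFinitePresentation) f) : AlgSt.IsOpenMor f := by
  obtain ⟨V, y, hy1, hy2⟩ := h𝒴.atlas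
  have h𝒬 : AlgSt.IsAlgStack Scheme.fppfPrecoverage (FibCat.fp f y) :=
    isAlgStack_fp _ h𝒳 (isAlgStack_overCat V) h𝒴 f y
  obtain ⟨T, c, hc1, hc2⟩ := h𝒬.atlas
  obtain ⟨k, α, ⟨θ⟩, hx, -, hs⟩ := exists_good_square h𝒳 h𝒴 f y hy1 c hc1
  have hk1 : AlgSp.LocP @Flat ((AlgSp.yon S).map k) :=
    prop_of_locQ isSmoothLocalST_locP_flat h𝒳 h𝒴 f h1 y hy1 c hc1 k θ
  have hk2 : AlgSp.LocP @LocallyOfFinitePresentation ((AlgSp.yon S).map k) :=
    prop_of_locQ isSmoothLocalST_locP_lfp h𝒳 h𝒴 f h2 y hy1 c hc1 k θ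
  rw [locP_yon_map_iff] at hk1 hk2
  have : Flat k.left := hk1
  have : LocallyOfFinitePresentation k.left := hk2
  let x : FibCat.overCat T ⥤ᵇ 𝒳 := BasedFunctor.comp c (FibCat.fpFst f y)
  have hx' : Sj x := hs hy2 hc2
  have key : ∀ t : ↥T.left, AlgSt.Points.map f (AlgSt.Points.ofChart x t) =
      AlgSt.Points.ofChart y (k.left t) := by
    intro t
    rw [map_ofChart, ofChart_congr α, ofChart_overMap]
  intro W hW
  have h3 : AlgSt.Points.map f '' W =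
      AlgSt.Points.ofChart y '' (k.left '' (AlgSt.Points.ofChart x ⁻¹' W)) := by
    ext p
    constructor
    · rintro ⟨q, hq, rfl⟩
      obtain ⟨t, rfl⟩ := surjective_ofChart h𝒳.isStack.1 x hx' q
      exact ⟨k.left t, ⟨t, hq, rfl⟩, (key t).symm⟩
    · rintro ⟨_, ⟨t, ht, rfl⟩, rfl⟩
      exact ⟨AlgSt.Points.ofChart x t, ht, key t⟩
  rw [h3]
  exact isOpenMap_ofChart h𝒴.isStack.1 y (repByAlgSpWith_flat_of_smooth hy1)
    (repByAlgSpWith_lfp_of_smooth hy1) _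
    (k.left.isOpenMap _ (hW.preimage (continuous_ofChart h𝒳 x)))

/-- A functor representable by algebraic spaces with a property of representable maps has the
corresponding property on chart squares. -/
theorem locQ_locP_of_repByAlgSpWith_repWith (Q R : MorphismProperty Scheme.{u}) [IsEtaleLocalST Q]
    [IsZariskiLocalAtTarget Q] [Q.DescendsAlong (@Surjective ⊓ @Flat ⊓ @QuasiCompact)]
    (hQ : AlgSp.IsSmoothLocalST (S := S) (AlgSp.LocP Q)) (hRQ : R ≤ Q)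
    (h𝒳 : AlgSt.IsAlgStack Scheme.fppfPrecoverage 𝒳)
    (h𝒴 : AlgSt.IsAlgStack Scheme.fppfPrecoverage 𝒴) (f : 𝒳 ⥤ᵇ 𝒴)
    (hf : AlgSt.RepByAlgSpWith (AlgSp.RepWith R) f) : AlgSt.LocQ (AlgSp.LocP Q) f := by
  have h1 : AlgSt.RepByAlgSp1 f := repByAlgSp1_of_repByAlgSpWith f hf
  have h2 : AlgSt.RepByAlgSpWith (AlgSp.LocP Q) f :=
    repByAlgSpWith_mono' f (fun F _ m hm =>
      locP_of_repWith Q F.property.diag m (repWith_mono hRQ hm)) hf
  exact (locQ_iff_repByAlgSpWith hQ (stableBC_locP Q) (isLocalOnBase_fppf_locP Q) h𝒳 h𝒴 f h1).2 h2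

/-- `S12996`. -/
theorem locQ_lft_of_isImm (h𝒳 : AlgSt.IsAlgStack Scheme.fppfPrecoverage 𝒳)
    (h𝒴 : AlgSt.IsAlgStack Scheme.fppfPrecoverage 𝒴) (f : 𝒳 ⥤ᵇ 𝒴) (hf : AlgSt.IsImm f) :
    AlgSt.LocQ (AlgSp.LocP @LocallyOfFiniteType) f :=
  locQ_locP_of_repByAlgSpWith_repWith @LocallyOfFiniteType @IsImmersion isSmoothLocalST_locP_lft
    (fun _ _ g hg => by haveI : IsImmersion g := hg; infer_instance) h𝒳 h𝒴 f hf

/-- `S12997`. -/
theorem locQ_lfp_of_isOpenImm (h𝒳 : AlgSt.IsAlgStack Scheme.fppfPrecoverage 𝒳)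
    (h𝒴 : AlgSt.IsAlgStack Scheme.fppfPrecoverage 𝒴) (f : 𝒳 ⥤ᵇ 𝒴) (hf : AlgSt.IsOpenImm f) :
    AlgSt.LocQ (AlgSp.LocP @LocallyOfFinitePresentation) f :=
  locQ_locP_of_repByAlgSpWith_repWith @LocallyOfFinitePresentation @IsOpenImmersion
    isSmoothLocalST_locP_lfp
    (fun _ _ g hg => by haveI : IsOpenImmersion g := hg; infer_instance) h𝒳 h𝒴 f hf

end Groth.Agent.Helper2.AlgStLib.LocQ
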