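import Mathlib
import Groth.Prelude.Def_AlgSt4
import Groth.Prelude.Def_AlgSpCov
import Groth.Agent.Lib.Helper2.AlgSt.LocQ.Props

/-!
# Chart squares for a composite of morphisms of algebraic stacks (helper2)
-/

set_option autoImplicit false
open CategoryTheory CategoryTheory.Functor CategoryTheory.Limits AlgebraicGeometry Opposite

universe u

namespace Groth.Agent.Helper2.AlgStLib.LocQ

open Groth.Agent.Helper2 Groth.Agent.Helper2.FibCatLib Groth.Agent.Helper2.StkLib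
open Groth.Agent.Helper2.AlgSpBasic Groth.Agent.Helper2.EtaleLocal
open Groth.Agent.Helper2.AlgStLib Groth.Agent.Helper2.AlgStLib.Pts

variable {S : Scheme.{u}} {𝒳 𝒴 𝒵 : BasedCategory.{u, u + 1} (Over S)}

/-- Composition with a morphism of schemes having `P` is a functor between slices having `P`. -/
theorem repByAlgSpWith_overMap_of_prop (P : MorphismProperty (AlgSp.Sp S)) (hPb : StableBC P)
    {U V : Over S} (j : U ⟶ V) (hj : P ((AlgSp.yon S).map j)) :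
    AlgSt.RepByAlgSpWith P (AlgSt.overMap j) :=
  repByAlgSpWith_of_repOver P hPb (AlgSt.overMap j)
    ⟨⟨(AlgSp.yon S).obj U, AlgSp.IsAlgSpace.yon_obj U⟩, AlgSt.toOverCat U, toOverCat_isEquivOver U,
      by rw [spMapOfOver_toOverCat_overMap]; exact hj⟩

theorem sj_overMap {U V : Over S} (j : U ⟶ V) [Surjective j.left] : Sj (AlgSt.overMap j) :=
  repByAlgSpWith_overMap_of_prop _ stableBC_isSurjectiveMor j
    ((surjectiveMor_yon_map_iff j).2 (Surjective.surj (f := j.left)))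

theorem sm_overMap {U V : Over S} (j : U ⟶ V) [Smooth j.left] : Sm (AlgSt.overMap j) :=
  repByAlgSpWith_smooth_overMap j

/-- **The tower square.** A chart square for `f ≫ g` and a chart `v` of `𝒴 ×_𝒵 W₀` give a chart
square for `f` over `v`. -/
theorem exists_tower_square (h𝒴 : AlgSt.IsAlgStack Scheme.fppfPrecoverage 𝒴)
    (h𝒵 : AlgSt.IsAlgStack Scheme.fppfPrecoverage 𝒵) (f : 𝒳 ⥤ᵇ 𝒴) (g : 𝒴 ⥤ᵇ 𝒵)
    {U₀ W₀ V : Over S} (x₀ : FibCat.overCat U₀ ⥤ᵇ 𝒳) (z₀ : FibCat.overCat W₀ ⥤ᵇ 𝒵) (h₀ : U₀ ⟶ W₀)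
    (α₀ : BasedFunctor.comp x₀ (BasedFunctor.comp f g) ≅ BasedFunctor.comp (AlgSt.overMap h₀) z₀)
    (v : FibCat.overCat V ⥤ᵇ FibCat.fp g z₀) (q : V ⟶ W₀)
    (θ : BasedFunctor.comp v (FibCat.fpSnd g z₀) ≅ AlgSt.overMap q) :
    ∃ (U : Over S) (a₁ : U ⟶ U₀) (a₂ : U ⟶ V),
      Nonempty (BasedFunctor.comp (BasedFunctor.comp (AlgSt.overMap a₁) x₀) f ≅
        BasedFunctor.comp (AlgSt.overMap a₂) (BasedFunctor.comp v (FibCat.fpFst g z₀))) ∧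
      a₁ ≫ h₀ = a₂ ≫ q ∧ (Sm v → Smooth a₁.left) ∧ (Sj v → Surjective a₁.left) := by
  have h𝒬 : AlgSt.IsAlgStack Scheme.fppfPrecoverage (FibCat.fp g z₀) :=
    isAlgStack_fp _ h𝒴 (isAlgStack_overCat W₀) h𝒵 g z₀
  let t₀ : FibCat.overCat U₀ ⥤ᵇ FibCat.fp g z₀ :=
    FibCat.fpLift (BasedFunctor.comp x₀ f) (AlgSt.overMap h₀) α₀
  obtain ⟨U, a₁, a₂, ⟨ω⟩, hs1, hs2, -, -⟩ := exists_common_chart h𝒬 t₀ v
  refine ⟨U, a₁, a₂, ⟨(postF _ (FibCat.fpFst g z₀)).mapIso ω⟩, ?_, hs1, hs2⟩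
  apply eq_of_overMap_iso
  exact (overMapCompIso a₁ h₀).symm ≪≫ (postF _ (FibCat.fpSnd g z₀)).mapIso ω ≪≫
    whiskerLeftIso (AlgSt.overMap a₂) θ ≪≫ overMapCompIso a₂ q

/-- `S13002`. -/
theorem locQ_lft_of_comp (h𝒳 : AlgSt.IsAlgStack Scheme.fppfPrecoverage 𝒳)
    (h𝒴 : AlgSt.IsAlgStack Scheme.fppfPrecoverage 𝒴)
    (h𝒵 : AlgSt.IsAlgStack Scheme.fppfPrecoverage 𝒵) (f : 𝒳 ⥤ᵇ 𝒴) (g : 𝒴 ⥤ᵇ 𝒵)
    (h : AlgSt.LocQ (AlgSp.LocP @LocallyOfFiniteType) (BasedFunctor.comp f g)) :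
    AlgSt.LocQ (AlgSp.LocP @LocallyOfFiniteType) f := by
  obtain ⟨U₀, W₀, x₀, z₀, h₀, α₀, hx₀, hx₀', hz₀, hh₀⟩ := h
  have h𝒬 : AlgSt.IsAlgStack Scheme.fppfPrecoverage (FibCat.fp g z₀) :=
    isAlgStack_fp _ h𝒴 (isAlgStack_overCat W₀) h𝒵 g z₀
  obtain ⟨V, v, hv1, hv2⟩ := h𝒬.atlas
  obtain ⟨θ⟩ := nonempty_iso_overMap_classify (BasedFunctor.comp v (FibCat.fpSnd g z₀))
  obtain ⟨U, a₁, a₂, ⟨α⟩, hcomm, hs1, hs2⟩ :=
    exists_tower_square h𝒴 h𝒵 f g x₀ z₀ h₀ α₀ v _ θ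
  have : Smooth a₁.left := hs1 hv1
  have : Surjective a₁.left := hs2 hv2
  have hU : FibCat.IsFibGrpd (FibCat.overCat U).p := isFibGrpd_overCat U
  have hU₀ : FibCat.IsFibGrpd (FibCat.overCat U₀).p := isFibGrpd_overCat U₀
  have hV : FibCat.IsFibGrpd (FibCat.overCat V).p := isFibGrpd_overCat V
  refine ⟨U, V, _, _, a₂, α, sm_comp hU hU₀ _ _ (sm_overMap a₁) hx₀,
    sj_comp hU hU₀ _ _ (sj_overMap a₁) hx₀',
    sm_comp hV h𝒬.isStack.1 _ _ hv1 (repByAlgSpWith_fpFst _ z₀ g hz₀), ?_⟩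
  rw [locP_yon_map_iff] at hh₀ ⊢
  have : LocallyOfFiniteType h₀.left := hh₀
  have h3 : LocallyOfFiniteType (a₂.left ≫ (OverFun.classify
      (BasedFunctor.comp v (FibCat.fpSnd g z₀))).left) := by
    rw [← Over.comp_left, ← hcomm, Over.comp_left]
    infer_instance
  exact locallyOfFiniteType_of_comp a₂.left (OverFun.classify
    (BasedFunctor.comp v (FibCat.fpSnd g z₀))).left

/-- `S13005`. -/
theorem locQ_lfp_of_comp (h𝒳 : AlgSt.IsAlgStack Scheme.fppfPrecoverage 𝒳)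
    (h𝒴 : AlgSt.IsAlgStack Scheme.fppfPrecoverage 𝒴)
    (h𝒵 : AlgSt.IsAlgStack Scheme.fppfPrecoverage 𝒵) (f : 𝒳 ⥤ᵇ 𝒴) (g : 𝒴 ⥤ᵇ 𝒵)
    (h : AlgSt.LocQ (AlgSp.LocP @LocallyOfFinitePresentation) (BasedFunctor.comp f g))
    (hg : AlgSt.LocQ (AlgSp.LocP @LocallyOfFiniteType) g) :
    AlgSt.LocQ (AlgSp.LocP @LocallyOfFinitePresentation) f := by
  obtain ⟨U₀, W₀, x₀, z₀, h₀, α₀, hx₀, hx₀', hz₀, hh₀⟩ := h
  have h𝒬 : AlgSt.IsAlgStack Scheme.fppfPrecoverage (FibCat.fp g z₀) :=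
    isAlgStack_fp _ h𝒴 (isAlgStack_overCat W₀) h𝒵 g z₀
  obtain ⟨V, v, hv1, hv2⟩ := h𝒬.atlas
  obtain ⟨θ⟩ := nonempty_iso_overMap_classify (BasedFunctor.comp v (FibCat.fpSnd g z₀))
  have hq : AlgSp.LocP @LocallyOfFiniteType ((AlgSp.yon S).map (OverFun.classify
      (BasedFunctor.comp v (FibCat.fpSnd g z₀)))) :=
    prop_of_locQ isSmoothLocalST_locP_lft h𝒴 h𝒵 g hg z₀ hz₀ v hv1 _ θ
  obtain ⟨U, a₁, a₂, ⟨α⟩, hcomm, hs1, hs2⟩ :=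
    exists_tower_square h𝒴 h𝒵 f g x₀ z₀ h₀ α₀ v _ θ
  have : Smooth a₁.left := hs1 hv1
  have : Surjective a₁.left := hs2 hv2
  have hU : FibCat.IsFibGrpd (FibCat.overCat U).p := isFibGrpd_overCat U
  have hU₀ : FibCat.IsFibGrpd (FibCat.overCat U₀).p := isFibGrpd_overCat U₀
  have hV : FibCat.IsFibGrpd (FibCat.overCat V).p := isFibGrpd_overCat V
  refine ⟨U, V, _, _, a₂, α, sm_comp hU hU₀ _ _ (sm_overMap a₁) hx₀,
    sj_comp hU hU₀ _ _ (sj_overMap a₁) hx₀',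
    sm_comp hV h𝒬.isStack.1 _ _ hv1 (repByAlgSpWith_fpFst _ z₀ g hz₀), ?_⟩
  rw [locP_yon_map_iff] at hh₀ hq ⊢
  have : LocallyOfFinitePresentation h₀.left := hh₀
  have h3 : LocallyOfFinitePresentation (a₂.left ≫ (OverFun.classify
      (BasedFunctor.comp v (FibCat.fpSnd g z₀))).left) := by
    rw [← Over.comp_left, ← hcomm, Over.comp_left]
    infer_instance
  exact locallyOfFinitePresentation_of_comp a₂.left _ h3 hq

end Groth.Agent.Helper2.AlgStLib.LocQ
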