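import Mathlib
import Groth.Prelude.Def_AlgSt4
import Groth.Prelude.Def_AlgSpCov
import Groth.Agent.Lib.Helper2.AlgSt.LocQ.Tower

/-!
# Calculus of chart squares: composition (helper2)
-/

set_option autoImplicit false
open CategoryTheory CategoryTheory.Functor CategoryTheory.Limits AlgebraicGeometry Opposite

universe u

namespace Groth.Agent.Helper2.AlgStLib.LocQ

open Groth.Agent.Helper2 Groth.Agent.Helper2.FibCatLib Groth.Agent.Helper2.StkLib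
open Groth.Agent.Helper2.AlgSpBasic Groth.Agent.Helper2.EtaleLocal
open Groth.Agent.Helper2.AlgStLib Groth.Agent.Helper2.AlgStLib.Pts

variable {S : Scheme.{u}} {𝒳 𝒴 𝒵 𝒲 𝒱 : BasedCategory.{u, u + 1} (Over S)}

section TowerMap

variable (f : 𝒳 ⥤ᵇ 𝒴) (g : 𝒴 ⥤ᵇ 𝒵) (z : 𝒲 ⥤ᵇ 𝒵) (v : 𝒱 ⥤ᵇ FibCat.fp g z)

/-- The functor `𝒳 ×_𝒴 𝒱 ⟶ 𝒳 ×_𝒵 𝒲` attached to `v : 𝒱 ⟶ 𝒴 ×_𝒵 𝒲`; it is a base change of
`v`. -/
def towerMap : FibCat.fp f (BasedFunctor.comp v (FibCat.fpFst g z)) ⥤ᵇ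
    FibCat.fp (BasedFunctor.comp f g) z :=
  BasedFunctor.comp (FpBC.mapSnd f (FibCat.fpFst g z) v) (Paste.pasteB f g z)

theorem towerMap_fst : BasedFunctor.comp (towerMap f g z v) (FibCat.fpFst (BasedFunctor.comp f g) z) =
    FibCat.fpFst f (BasedFunctor.comp v (FibCat.fpFst g z)) := rfl

theorem towerMap_snd : BasedFunctor.comp (towerMap f g z v) (FibCat.fpSnd (BasedFunctor.comp f g) z) =
    BasedFunctor.comp (FibCat.fpSnd f (BasedFunctor.comp v (FibCat.fpFst g z)))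
      (BasedFunctor.comp v (FibCat.fpSnd g z)) := rfl

theorem repByAlgSpWith_towerMap (Q : MorphismProperty (AlgSp.Sp S))
    (hv : AlgSt.RepByAlgSpWith Q v) : AlgSt.RepByAlgSpWith Q (towerMap f g z v) :=
  (repByAlgSpWith_comp_equiv Q _ _ (Paste.pasteB_isEquivOver f g z)).2
    (repByAlgSpWith_mapSnd Q f (FibCat.fpFst g z) v hv)

end TowerMap

/-- The scheme map under a surjective chart of a category surjecting onto a scheme is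
surjective. -/
theorem surjective_of_chart_of_isSurjective {𝒬 : BasedCategory.{u, u + 1} (Over S)}
    (h𝒬 : FibCat.IsFibGrpd 𝒬.p) {U V : Over S} (c : FibCat.overCat U ⥤ᵇ 𝒬)
    (π : 𝒬 ⥤ᵇ FibCat.overCat V) (k : U ⟶ V) (θ : BasedFunctor.comp c π ≅ AlgSt.overMap k)
    (hc : Sj c) (hπ : AlgSt.IsSurjective π) : Surjective k.left := by
  refine ⟨fun t => ?_⟩
  obtain ⟨ω, hω⟩ := hπ (ptEquiv V t)
  obtain ⟨u, rfl⟩ := surjective_ofChart h𝒬 c hc ω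
  refine ⟨u, (ptEquiv V).injective ?_⟩
  rw [← hω, map_ofChart, ofChart_congr θ, ofChart_eq_map_ptEquiv, map_overMap_ptEquiv]

section Comp

variable {P : MorphismProperty (AlgSp.Sp S)}

/-- `S13038`: composition of chart-square properties. -/
theorem locQ_comp (hP : IsSmoothStable P) (hPc : StableComp P)
    (h𝒳 : AlgSt.IsAlgStack Scheme.fppfPrecoverage 𝒳)
    (h𝒴 : AlgSt.IsAlgStack Scheme.fppfPrecoverage 𝒴)
    (h𝒵 : AlgSt.IsAlgStack Scheme.fppfPrecoverage 𝒵) (f : 𝒳 ⥤ᵇ 𝒴) (g : 𝒴 ⥤ᵇ 𝒵)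
    (hf : AlgSt.LocQ P f) (hg : AlgSt.LocQ P g) : AlgSt.LocQ P (BasedFunctor.comp f g) := by
  obtain ⟨W, z, hz1, hz2⟩ := h𝒵.atlas
  obtain ⟨U₁, V₁, x₁, y₁, h₁, α₁, hx₁, hx₁', hy₁, hh₁⟩ := hg
  obtain ⟨V, v, q, ⟨θ⟩, hv1, hv2, hq⟩ :=
    exists_chart_of_square' hP h𝒵 g x₁ y₁ h₁ α₁ hx₁ hx₁' hy₁ hh₁ z hz1
  have h𝒬 : AlgSt.IsAlgStack Scheme.fppfPrecoverage (FibCat.fp g z) :=
    isAlgStack_fp _ h𝒴 (isAlgStack_overCat W) h𝒵 g z
  have hV : FibCat.IsFibGrpd (FibCat.overCat V).p := isFibGrpd_overCat V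
  have hy : Sm (BasedFunctor.comp v (FibCat.fpFst g z)) :=
    sm_comp hV h𝒬.isStack.1 _ _ hv1 (repByAlgSpWith_fpFst _ z g hz1)
  obtain ⟨U₀, V₀, x₀, y₀, h₀, α₀, hx₀, hx₀', hy₀, hh₀⟩ := hf
  obtain ⟨U, c', k, ⟨θ'⟩, hc1, hc2, hk⟩ :=
    exists_chart_of_square' hP h𝒴 f x₀ y₀ h₀ α₀ hx₀ hx₀' hy₀ hh₀ _ hy
  have h𝒬' : AlgSt.IsAlgStack Scheme.fppfPrecoverage
      (FibCat.fp f (BasedFunctor.comp v (FibCat.fpFst g z))) :=
    isAlgStack_fp _ h𝒳 (isAlgStack_overCat V) h𝒴 f _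
  have hU : FibCat.IsFibGrpd (FibCat.overCat U).p := isFibGrpd_overCat U
  refine locQ_of_chart h𝒳 h𝒵 (BasedFunctor.comp f g) z hz1 hz2
    (BasedFunctor.comp c' (towerMap f g z v))
    (sm_comp hU h𝒬'.isStack.1 _ _ hc1 (repByAlgSpWith_towerMap f g z v _ hv1))
    (sj_comp hU h𝒬'.isStack.1 _ _ hc2 (repByAlgSpWith_towerMap f g z v _ hv2)) (k ≫ q)
    ((postF _ (BasedFunctor.comp v (FibCat.fpSnd g z))).mapIso θ' ≪≫
      whiskerLeftIso (AlgSt.overMap k) θ ≪≫ overMapCompIso k q) ?_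
  rw [Functor.map_comp]
  exact hPc (AlgSp.IsAlgSpace.yon_obj U) (AlgSp.IsAlgSpace.yon_obj V)
    (AlgSp.IsAlgSpace.yon_obj W) _ _ hk hq

end Comp

/-- `S13004`. -/
theorem locQ_flat_of_comp_of_isSurjective (h𝒳 : AlgSt.IsAlgStack Scheme.fppfPrecoverage 𝒳)
    (h𝒴 : AlgSt.IsAlgStack Scheme.fppfPrecoverage 𝒴)
    (h𝒵 : AlgSt.IsAlgStack Scheme.fppfPrecoverage 𝒵) (f : 𝒳 ⥤ᵇ 𝒴) (g : 𝒴 ⥤ᵇ 𝒵)
    (hf₁ : AlgSt.LocQ (AlgSp.LocP @Flat) f) (hf₂ : AlgSt.IsSurjective f)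
    (h : AlgSt.LocQ (AlgSp.LocP @Flat) (BasedFunctor.comp f g)) :
    AlgSt.LocQ (AlgSp.LocP @Flat) g := by
  obtain ⟨W, z, hz1, hz2⟩ := h𝒵.atlas
  have h𝒬 : AlgSt.IsAlgStack Scheme.fppfPrecoverage (FibCat.fp g z) :=
    isAlgStack_fp _ h𝒴 (isAlgStack_overCat W) h𝒵 g z
  obtain ⟨V, v, hv1, hv2⟩ := h𝒬.atlas
  obtain ⟨θ⟩ := nonempty_iso_overMap_classify (BasedFunctor.comp v (FibCat.fpSnd g z))
  have hV : FibCat.IsFibGrpd (FibCat.overCat V).p := isFibGrpd_overCat V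
  have hy : Sm (BasedFunctor.comp v (FibCat.fpFst g z)) :=
    sm_comp hV h𝒬.isStack.1 _ _ hv1 (repByAlgSpWith_fpFst _ z g hz1)
  have h𝒬' : AlgSt.IsAlgStack Scheme.fppfPrecoverage
      (FibCat.fp f (BasedFunctor.comp v (FibCat.fpFst g z))) :=
    isAlgStack_fp _ h𝒳 (isAlgStack_overCat V) h𝒴 f _
  obtain ⟨U, c', hc1, hc2⟩ := h𝒬'.atlas
  obtain ⟨θ'⟩ := nonempty_iso_overMap_classify
    (BasedFunctor.comp c' (FibCat.fpSnd f (BasedFunctor.comp v (FibCat.fpFst g z))))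
  have hU : FibCat.IsFibGrpd (FibCat.overCat U).p := isFibGrpd_overCat U
  have hk := prop_of_locQ isSmoothLocalST_locP_flat h𝒳 h𝒴 f hf₁ _ hy c' hc1 _ θ'
  rw [locP_yon_map_iff] at hk
  have hks := surjective_of_chart_of_isSurjective h𝒬'.isStack.1 c' _ _ θ' hc2
    (isSurjective_fpSnd h𝒳.isStack.1 h𝒴.isStack.1 hV f _ hf₂)
  have hkq := prop_of_locQ isSmoothLocalST_locP_flat h𝒳 h𝒵 (BasedFunctor.comp f g) h z hz1
    (BasedFunctor.comp c' (towerMap f g z v))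
    (sm_comp hU h𝒬'.isStack.1 _ _ hc1 (repByAlgSpWith_towerMap f g z v _ hv1)) _
    ((postF _ (BasedFunctor.comp v (FibCat.fpSnd g z))).mapIso θ' ≪≫
      whiskerLeftIso (AlgSt.overMap _) θ ≪≫ overMapCompIso _ _)
  rw [locP_yon_map_iff, Over.comp_left] at hkq
  refine locQ_of_chart h𝒴 h𝒵 g z hz1 hz2 v hv1 hv2 _ θ ?_
  rw [locP_yon_map_iff]
  have : Flat (OverFun.classify
    (BasedFunctor.comp c' (FibCat.fpSnd f (BasedFunctor.comp v (FibCat.fpFst g z))))).left := hk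
  have : Flat ((OverFun.classify (BasedFunctor.comp c'
    (FibCat.fpSnd f (BasedFunctor.comp v (FibCat.fpFst g z))))).left ≫
    (OverFun.classify (BasedFunctor.comp v (FibCat.fpSnd g z))).left) := hkq
  exact flat_of_flat_comp_of_surjective (OverFun.classify (BasedFunctor.comp c'
    (FibCat.fpSnd f (BasedFunctor.comp v (FibCat.fpFst g z))))).left (OverFun.classify
    (BasedFunctor.comp v (FibCat.fpSnd g z))).left

end Groth.Agent.Helper2.AlgStLib.LocQ
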