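import Mathlib
import Groth.Prelude.Def_AlgSt4
import Groth.Prelude.Def_AlgSpCov
import Groth.Agent.Lib.Helper2.AlgSt.LocQ.Calc

/-!
# Calculus of chart squares: base change (helper2)
-/

set_option autoImplicit false
open CategoryTheory CategoryTheory.Functor CategoryTheory.Limits AlgebraicGeometry Opposite

universe u

namespace Groth.Agent.Helper2.AlgStLib.LocQ

open Groth.Agent.Helper2 Groth.Agent.Helper2.FibCatLib Groth.Agent.Helper2.StkLib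
open Groth.Agent.Helper2.AlgSpBasic Groth.Agent.Helper2.EtaleLocal
open Groth.Agent.Helper2.AlgStLib Groth.Agent.Helper2.AlgStLib.Pts

variable {S : Scheme.{u}} {𝒳 𝒴 𝒵 𝒲 𝒱 : BasedCategory.{u, u + 1} (Over S)}

/-- Charts can be transported backwards along an equivalence. -/
theorem exists_chart_of_equiv {𝒬 𝒬' : BasedCategory.{u, u + 1} (Over S)} (E : 𝒬' ⥤ᵇ 𝒬)
    (hE : FibCat.IsEquivOver E) {V T : Over S} (π : 𝒬 ⥤ᵇ FibCat.overCat V)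
    (c : FibCat.overCat T ⥤ᵇ 𝒬) (k : T ⟶ V) (θ : BasedFunctor.comp c π ≅ AlgSt.overMap k) :
    ∃ c' : FibCat.overCat T ⥤ᵇ 𝒬',
      Nonempty (BasedFunctor.comp c' (BasedFunctor.comp E π) ≅ AlgSt.overMap k) ∧
      Nonempty (BasedFunctor.comp c' E ≅ c) ∧
      ∀ Q : MorphismProperty (AlgSp.Sp S), AlgSt.RepByAlgSpWith Q c → AlgSt.RepByAlgSpWith Q c' := by
  obtain ⟨G, ⟨η⟩, ⟨ε⟩⟩ := hE
  have hG : FibCat.IsEquivOver G := ⟨E, ⟨ε⟩, ⟨η⟩⟩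
  refine ⟨BasedFunctor.comp c G, ⟨?_⟩, ⟨whiskerLeftIso c ε⟩, fun Q hc =>
    (repByAlgSpWith_comp_equiv Q c G hG).2 hc⟩
  exact whiskerLeftIso c ((postF _ π).mapIso ε) ≪≫ θ

section BC

variable (g : 𝒵 ⥤ᵇ 𝒴) (f : 𝒳 ⥤ᵇ 𝒴) (y' : 𝒱 ⥤ᵇ 𝒵)

/-- The equivalence `(𝒵 ×_𝒴 𝒳) ×_𝒵 𝒱 ≃ 𝒳 ×_𝒴 𝒱`. -/
def bcEquiv : FibCat.fp (FibCat.fpFst g f) y' ⥤ᵇ FibCat.fp f (BasedFunctor.comp y' g) :=
  BasedFunctor.comp (FpSwap.fpSwap (FibCat.fpFst g f) y')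
    (BasedFunctor.comp (Paste.pasteB y' g f) (FpSwap.fpSwap (BasedFunctor.comp y' g) f))

theorem bcEquiv_isEquivOver : FibCat.IsEquivOver (bcEquiv g f y') :=
  ReprInv.isEquivOver_comp (FpSwap.fpSwap_isEquivOver _ _)
    (ReprInv.isEquivOver_comp (Paste.pasteB_isEquivOver y' g f) (FpSwap.fpSwap_isEquivOver _ _))

theorem bcEquiv_snd : BasedFunctor.comp (bcEquiv g f y') (FibCat.fpSnd f (BasedFunctor.comp y' g)) =
    FibCat.fpSnd (FibCat.fpFst g f) y' := rfl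

theorem bcEquiv_fst : BasedFunctor.comp (bcEquiv g f y') (FibCat.fpFst f (BasedFunctor.comp y' g)) =
    BasedFunctor.comp (FibCat.fpFst (FibCat.fpFst g f) y') (FibCat.fpSnd g f) := rfl

end BC

section Main

variable {P : MorphismProperty (AlgSp.Sp S)} (hP : IsSmoothStable P) (hPb : StableBC P)

include hP hPb in
/-- **From a chart square to a chart over any `V ⟶ 𝒴`**, for properties stable under arbitrary
base change. -/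
theorem exists_chart_of_square_bc (h𝒴 : AlgSt.IsAlgStack Scheme.fppfPrecoverage 𝒴)
    (f : 𝒳 ⥤ᵇ 𝒴) {U₀ V₀ : Over S} (x₀ : FibCat.overCat U₀ ⥤ᵇ 𝒳)
    (y₀ : FibCat.overCat V₀ ⥤ᵇ 𝒴) (h₀ : U₀ ⟶ V₀)
    (α₀ : BasedFunctor.comp x₀ f ≅ BasedFunctor.comp (AlgSt.overMap h₀) y₀)
    (hx₀ : Sm x₀) (hx₀' : Sj x₀) (hy₀ : Sm y₀) (hh₀ : P ((AlgSp.yon S).map h₀))
    {V : Over S} (y : FibCat.overCat V ⥤ᵇ 𝒴) :
    ∃ (T : Over S) (c : FibCat.overCat T ⥤ᵇ FibCat.fp f y) (k : T ⟶ V),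
      Nonempty (BasedFunctor.comp c (FibCat.fpSnd f y) ≅ AlgSt.overMap k) ∧ Sm c ∧ Sj c ∧
        P ((AlgSp.yon S).map k) := by
  -- the algebraic space `G = V₀ ×_𝒴 V`
  obtain ⟨G, eG, heG⟩ := repByAlgSp1_chart h𝒴 y V₀ y₀
  let g₀ : G.obj ⟶ (AlgSp.yon S).obj V₀ :=
    AlgSt.spMapOfOver (BasedFunctor.comp eG (FibCat.fpFst y₀ y))
  let gV : G.obj ⟶ (AlgSp.yon S).obj V :=
    AlgSt.spMapOfOver (BasedFunctor.comp eG (FibCat.fpSnd y₀ y))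
  have hgV : AlgSp.LocP @Smooth gV :=
    prop_spMapOfOver_of_repByAlgSpWith _ (respectsIsoSp_of_stableBC (stableBC_locP _)) G _
      ((repByAlgSpWith_equiv_comp _ eG heG _).2 (repByAlgSpWith_fpSnd _ y₀ y hy₀))
  -- the algebraic space `X = U₀ ×_{V₀} G`
  let X : AlgSp.Sp S := pullback ((AlgSp.yon S).map h₀) g₀
  let pX₁ : X ⟶ (AlgSp.yon S).obj U₀ := pullback.fst _ _
  let pX₂ : X ⟶ G.obj := pullback.snd _ _
  have sq : IsPullback pX₁ pX₂ ((AlgSp.yon S).map h₀) g₀ := IsPullback.of_hasPullback _ _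
  have hU₀ := AlgSp.IsAlgSpace.yon_obj U₀
  have hV₀ := AlgSp.IsAlgSpace.yon_obj V₀
  have hV := AlgSp.IsAlgSpace.yon_obj V
  have hX : AlgSp.IsAlgSpace X :=
    isAlgSpace_of_isPullback hV₀.diag hU₀ G.property _ _ _ _ sq
  have hp2 : P pX₂ := hPb hU₀ hV₀ hX G.property _ g₀ pX₂ pX₁ sq hh₀
  have hp3 : P (pX₂ ≫ gV) := hP.postcomp hX G.property hV _ _ hp2 hgV
  -- `X` represents `U₀ ×_{V₀} (V₀ ×_𝒴 V)`
  obtain ⟨EX, hEX, -, hEXsnd⟩ := exists_equiv_fp_overMap_both (FibCat.fpFst y₀ y) eG heG h₀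
    pX₂ pX₁ sq.flip
  obtain ⟨n, hn, hnQ⟩ := exists_bridge f x₀ y₀ h₀ α₀ y
  -- a scheme atlas of `X`
  obtain ⟨T, xT, hxT1, hxT2⟩ := (hasAtlas_ofSp ⟨X, hX⟩).2
  have hfT : FibCat.IsFibGrpd (FibCat.overCat T).p := isFibGrpd_overCat T
  have hfX : FibCat.IsFibGrpd (AlgSt.ofSp X).p := Stk.isFibGrpd_ofPsh X.obj
  let m : AlgSt.ofSp X ⥤ᵇ FibCat.fp f y := BasedFunctor.comp EX n
  have hm1 : Sm m := (repByAlgSpWith_equiv_comp _ EX hEX n).2 (hnQ _ hx₀)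
  have hm2 : Sj m := (repByAlgSpWith_equiv_comp _ EX hEX n).2 (hnQ _ hx₀')
  let c : FibCat.overCat T ⥤ᵇ FibCat.fp f y := BasedFunctor.comp xT m
  let Ψ : FibCat.overCat T ⥤ᵇ FibCat.overCat V := BasedFunctor.comp c (FibCat.fpSnd f y)
  obtain ⟨θ⟩ := nonempty_iso_overMap_classify Ψ
  refine ⟨T, c, OverFun.classify Ψ, ⟨θ⟩, sm_comp hfT hfX _ _ hxT1 hm1,
    sj_comp hfT hfX _ _ hxT2 hm2, ?_⟩
  -- the map `h_T ⟶ X`
  let τ : (AlgSp.yon S).obj T ⟶ X := ObjectProperty.homMk (secMap xT)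
  have hτ : AlgSp.LocP @Smooth τ :=
    prop_secMap_of_repByAlgSpWith _ (stableBC_locP _)
      (atlasLocal_of_fppf isLocalOnBase_fppf_locP_smooth) hX xT hxT1
  have hp4 : P (τ ≫ pX₂ ≫ gV) :=
    hP.precomp (AlgSp.IsAlgSpace.yon_obj T) hX hV τ _ hτ hp3
  -- identify the composite
  have hΨ : BasedFunctor.comp (AlgSt.toOverCat T) Ψ =
      BasedFunctor.comp (BasedFunctor.comp (AlgSt.toOverCat T) xT)
        (BasedFunctor.comp (AlgSt.ofSpMap pX₂)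
          (BasedFunctor.comp eG (FibCat.fpSnd y₀ y))) := by
    change BasedFunctor.comp (AlgSt.toOverCat T) (BasedFunctor.comp xT (BasedFunctor.comp EX
      (BasedFunctor.comp n (FibCat.fpSnd f y)))) = _
    rw [hn]
    change BasedFunctor.comp (AlgSt.toOverCat T) (BasedFunctor.comp xT (BasedFunctor.comp
      (BasedFunctor.comp EX (FibCat.fpSnd (AlgSt.overMap h₀) (FibCat.fpFst y₀ y)))
      (FibCat.fpSnd y₀ y))) = _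
    rw [hEXsnd]
    rfl
  have key : (AlgSp.yon S).map (OverFun.classify Ψ) = τ ≫ pX₂ ≫ gV := by
    rw [← spMapOfOver_toOverCat_overMap]
    have h1 : AlgSt.spMapOfOver (BasedFunctor.comp (AlgSt.toOverCat T)
        (AlgSt.overMap (OverFun.classify Ψ))) =
        AlgSt.spMapOfOver (BasedFunctor.comp (AlgSt.toOverCat T) Ψ) :=
      spMapOfOver_congr (BasedCategory.whiskerLeft (AlgSt.toOverCat T) θ.inv)
    rw [h1, hΨ, spMapOfOver_comp, spMapOfOver_comp]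
    congr 1
    congr 1
    apply ObjectProperty.hom_ext
    exact mapOfFunctor_ofPshMap pX₂.hom
  rw [key]
  exact hp4

include hP hPb in
/-- `S13039`: base change of chart-square properties. -/
theorem locQ_fpFst (h𝒳 : AlgSt.IsAlgStack Scheme.fppfPrecoverage 𝒳)
    (h𝒴 : AlgSt.IsAlgStack Scheme.fppfPrecoverage 𝒴)
    (h𝒵 : AlgSt.IsAlgStack Scheme.fppfPrecoverage 𝒵) (f : 𝒳 ⥤ᵇ 𝒴) (g : 𝒵 ⥤ᵇ 𝒴)
    (hf : AlgSt.LocQ P f) : AlgSt.LocQ P (FibCat.fpFst g f) := by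
  obtain ⟨V', y', hy1, hy2⟩ := h𝒵.atlas
  obtain ⟨U₀, V₀, x₀, y₀, h₀, α₀, hx₀, hx₀', hy₀, hh₀⟩ := hf
  obtain ⟨T, c, k, ⟨θ⟩, hc1, hc2, hk⟩ :=
    exists_chart_of_square_bc hP hPb h𝒴 f x₀ y₀ h₀ α₀ hx₀ hx₀' hy₀ hh₀ (BasedFunctor.comp y' g)
  obtain ⟨c', ⟨θ'⟩, -, hQ⟩ := exists_chart_of_equiv (bcEquiv g f y') (bcEquiv_isEquivOver g f y')
    (FibCat.fpSnd f (BasedFunctor.comp y' g)) c k θ
  exact locQ_of_chart (isAlgStack_fp _ h𝒵 h𝒳 h𝒴 g f) h𝒵 (FibCat.fpFst g f) y' hy1 hy2 c'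
    (hQ _ hc1) (hQ _ hc2) k θ' hk

end Main

end Groth.Agent.Helper2.AlgStLib.LocQ

namespace Groth.Agent.Helper2.AlgStLib.LocQ

open Groth.Agent.Helper2 Groth.Agent.Helper2.FibCatLib Groth.Agent.Helper2.StkLib
open Groth.Agent.Helper2.AlgSpBasic Groth.Agent.Helper2.EtaleLocal
open Groth.Agent.Helper2.AlgStLib Groth.Agent.Helper2.AlgStLib.Pts

variable {S : Scheme.{u}} {𝒳 𝒴 𝒵 𝒳' : BasedCategory.{u, u + 1} (Over S)}

/-- Chart-square properties are invariant under 2-isomorphism. -/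
theorem locQ_congr {P : MorphismProperty (AlgSp.Sp S)} {f f' : 𝒳 ⥤ᵇ 𝒴} (e : f ≅ f')
    (hf : AlgSt.LocQ P f) : AlgSt.LocQ P f' := by
  obtain ⟨U, V, x, y, h, α, hx, hx', hy, hh⟩ := hf
  exact ⟨U, V, x, y, h, whiskerLeftIso x e.symm ≪≫ α, hx, hx', hy, hh⟩

/-- Chart-square properties are invariant under precomposition with an equivalence. -/
theorem locQ_equiv_comp {P : MorphismProperty (AlgSp.Sp S)} (E : 𝒳' ⥤ᵇ 𝒳)
    (hE : FibCat.IsEquivOver E) (f : 𝒳 ⥤ᵇ 𝒴) (hf : AlgSt.LocQ P f) :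
    AlgSt.LocQ P (BasedFunctor.comp E f) := by
  obtain ⟨U, V, x, y, h, α, hx, hx', hy, hh⟩ := hf
  obtain ⟨G, ⟨η⟩, ⟨ε⟩⟩ := hE
  have hG : FibCat.IsEquivOver G := ⟨E, ⟨ε⟩, ⟨η⟩⟩
  exact ⟨U, V, BasedFunctor.comp x G, y, h,
    whiskerLeftIso x ((postF _ f).mapIso ε) ≪≫ α,
    (repByAlgSpWith_comp_equiv _ x G hG).2 hx, (repByAlgSpWith_comp_equiv _ x G hG).2 hx', hy, hh⟩

/-- `S13003`. -/
theorem locQ_flat_of_fpFst (h𝒳 : AlgSt.IsAlgStack Scheme.fppfPrecoverage 𝒳)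
    (h𝒴 : AlgSt.IsAlgStack Scheme.fppfPrecoverage 𝒴)
    (h𝒵 : AlgSt.IsAlgStack Scheme.fppfPrecoverage 𝒵) (f : 𝒳 ⥤ᵇ 𝒴) (z : 𝒵 ⥤ᵇ 𝒴)
    (hz₁ : AlgSt.LocQ (AlgSp.LocP @Flat) z) (hz₂ : AlgSt.IsSurjective z)
    (h : AlgSt.LocQ (AlgSp.LocP @Flat) (FibCat.fpFst z f)) : AlgSt.LocQ (AlgSp.LocP @Flat) f := by
  have hst : IsSmoothStable (S := S) (AlgSp.LocP @Flat) :=
    IsSmoothStable.of_local isSmoothLocalST_locP_flat
  have h𝒫 : AlgSt.IsAlgStack Scheme.fppfPrecoverage (FibCat.fp z f) :=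
    isAlgStack_fp _ h𝒵 h𝒳 h𝒴 z f
  have h𝒫' : AlgSt.IsAlgStack Scheme.fppfPrecoverage (FibCat.fp f z) :=
    isAlgStack_fp _ h𝒳 h𝒵 h𝒴 f z
  have h1 : AlgSt.LocQ (AlgSp.LocP @Flat) (BasedFunctor.comp (FibCat.fpFst z f) z) :=
    locQ_comp hst (stableComp_locP _) h𝒫 h𝒵 h𝒴 _ _ h hz₁
  have h2 : AlgSt.LocQ (AlgSp.LocP @Flat) (BasedFunctor.comp (FibCat.fpSnd z f) f) :=
    locQ_congr (FibCat.fpIso z f) h1
  have h3 : AlgSt.LocQ (AlgSp.LocP @Flat) (FibCat.fpFst f z) :=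
    locQ_fpFst hst (stableBC_locP _) h𝒵 h𝒴 h𝒳 z f hz₁
  have h4 : AlgSt.LocQ (AlgSp.LocP @Flat) (FibCat.fpSnd z f) :=
    locQ_equiv_comp (FpSwap.fpSwap z f) (FpSwap.fpSwap_isEquivOver z f) _ h3
  exact locQ_flat_of_comp_of_isSurjective h𝒫 h𝒳 h𝒴 (FibCat.fpSnd z f) f h4
    (isSurjective_fpSnd h𝒵.isStack.1 h𝒴.isStack.1 h𝒳.isStack.1 z f hz₂) h2

end Groth.Agent.Helper2.AlgStLib.LocQ
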