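import Mathlib
import Groth.Prelude.Def_AlgSt4
import Groth.Prelude.Def_AlgSpCov
import Groth.Agent.Lib.Helper2.AlgSt.LocQ.BaseChange

/-!
# Calculus of chart squares: fppf descent on the target (helper2)
-/

set_option autoImplicit false
open CategoryTheory CategoryTheory.Functor CategoryTheory.Limits AlgebraicGeometry Opposite

universe u

namespace Groth.Agent.Helper2.AlgStLib.LocQ

open Groth.Agent.Helper2 Groth.Agent.Helper2.FibCatLib Groth.Agent.Helper2.StkLib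
open Groth.Agent.Helper2.AlgSpBasic Groth.Agent.Helper2.EtaleLocal
open Groth.Agent.Helper2.AlgStLib Groth.Agent.Helper2.AlgStLib.Pts

variable {S : Scheme.{u}} {𝒳 𝒴 𝒵 𝒬 : BasedCategory.{u, u + 1} (Over S)}

/-- A scheme chart of a category receiving a functor from an algebraic space. -/
theorem exists_chart_of_space {X : AlgSp.Sp S} (hX : AlgSp.IsAlgSpace X) {V : Over S}
    (m : AlgSt.ofSp X ⥤ᵇ 𝒬) (π : 𝒬 ⥤ᵇ FibCat.overCat V) :
    ∃ (T : Over S) (c : FibCat.overCat T ⥤ᵇ 𝒬) (k : T ⟶ V) (τ : (AlgSp.yon S).obj T ⟶ X),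
      Nonempty (BasedFunctor.comp c π ≅ AlgSt.overMap k) ∧ (Sm m → Sm c) ∧ (Sj m → Sj c) ∧
      AlgSp.LocP @Smooth τ ∧ AlgSp.IsSurjectiveMor τ ∧
      (AlgSp.yon S).map k = τ ≫ AlgSt.spMapOfOver (BasedFunctor.comp m π) := by
  obtain ⟨T, xT, hxT1, hxT2⟩ := (hasAtlas_ofSp ⟨X, hX⟩).2
  have hfT : FibCat.IsFibGrpd (FibCat.overCat T).p := isFibGrpd_overCat T
  have hfX : FibCat.IsFibGrpd (AlgSt.ofSp X).p := Stk.isFibGrpd_ofPsh X.obj
  let c : FibCat.overCat T ⥤ᵇ 𝒬 := BasedFunctor.comp xT m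
  let Ψ : FibCat.overCat T ⥤ᵇ FibCat.overCat V := BasedFunctor.comp c π
  obtain ⟨θ⟩ := nonempty_iso_overMap_classify Ψ
  let τ : (AlgSp.yon S).obj T ⟶ X := ObjectProperty.homMk (secMap xT)
  have hτ1 : AlgSp.LocP @Smooth τ :=
    prop_secMap_of_repByAlgSpWith _ (stableBC_locP _)
      (atlasLocal_of_fppf isLocalOnBase_fppf_locP_smooth) hX xT hxT1
  have hτ2 : AlgSp.IsSurjectiveMor τ :=
    prop_secMap_of_repByAlgSpWith _ stableBC_isSurjectiveMor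
      (atlasLocal_of_fppf isLocalOnBase_fppf_isSurjectiveMor) hX xT hxT2
  refine ⟨T, c, OverFun.classify Ψ, τ, ⟨θ⟩, fun hm => sm_comp hfT hfX _ _ hxT1 hm,
    fun hm => sj_comp hfT hfX _ _ hxT2 hm, hτ1, hτ2, ?_⟩
  rw [← spMapOfOver_toOverCat_overMap]
  have h2 : AlgSt.spMapOfOver (BasedFunctor.comp (AlgSt.toOverCat T)
      (AlgSt.overMap (OverFun.classify Ψ))) =
      AlgSt.spMapOfOver (BasedFunctor.comp (AlgSt.toOverCat T) Ψ) :=
    spMapOfOver_congr (BasedCategory.whiskerLeft (AlgSt.toOverCat T) θ.inv)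
  rw [h2]
  exact spMapOfOver_comp (BasedFunctor.comp (AlgSt.toOverCat T) xT) (BasedFunctor.comp m π)

/-- **Base change of a chart along a morphism of schemes.** -/
theorem exists_bc_chart {U V V' : Over S} (π : 𝒬 ⥤ᵇ FibCat.overCat V)
    (c : FibCat.overCat U ⥤ᵇ 𝒬) (k : U ⟶ V) (θ : BasedFunctor.comp c π ≅ AlgSt.overMap k)
    (p : V' ⟶ V) {X : AlgSp.Sp S} (pr₁ : X ⟶ (AlgSp.yon S).obj U)
    (pr₂ : X ⟶ (AlgSp.yon S).obj V')
    (sq : IsPullback pr₁ pr₂ ((AlgSp.yon S).map k) ((AlgSp.yon S).map p)) :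
    ∃ m : AlgSt.ofSp X ⥤ᵇ FibCat.fp π (AlgSt.overMap p),
      BasedFunctor.comp m (FibCat.fpSnd π (AlgSt.overMap p)) =
        BasedFunctor.comp (AlgSt.ofSpMap pr₂) (AlgSt.toOverCat V') ∧
      ∀ Q : MorphismProperty (AlgSp.Sp S), AlgSt.RepByAlgSpWith Q c → AlgSt.RepByAlgSpWith Q m := by
  have sq' : IsPullback pr₂ pr₁ (AlgSt.spMapOfOver (BasedFunctor.comp (AlgSt.toOverCat V')
      (AlgSt.overMap p))) ((AlgSp.yon S).map k) := by
    rw [spMapOfOver_toOverCat_overMap]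
    exact sq.flip
  obtain ⟨E, hE, -, hE2⟩ := exists_equiv_fp_overMap_both (AlgSt.overMap p) (AlgSt.toOverCat V')
    (toOverCat_isEquivOver V') k pr₂ pr₁ sq'
  obtain ⟨Φ, hΦ, -, hΦ2⟩ := exists_equiv_fp_congr_both (AlgSt.overMap k) (BasedFunctor.comp c π)
    (AlgSt.overMap p) θ.symm
  refine ⟨BasedFunctor.comp (BasedFunctor.comp E Φ) (FpBC.mapFst π (AlgSt.overMap p) c), ?_,
    fun Q hc => (repByAlgSpWith_equiv_comp Q _ (ReprInv.isEquivOver_comp hE hΦ) _).2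
      (repByAlgSpWith_mapFst Q π (AlgSt.overMap p) c hc)⟩
  change BasedFunctor.comp E (BasedFunctor.comp Φ (BasedFunctor.comp
    (FpBC.mapFst π (AlgSt.overMap p) c) (FibCat.fpSnd π (AlgSt.overMap p)))) = _
  rw [FpBC.mapFst_snd, hΦ2, hE2]

/-- The equivalence `(𝒳 ×_𝒴 V) ×_V V' ≃ (𝒵 ×_𝒴 𝒳) ×_𝒵 V'` attached to a 2-commutative square
`V' ⟶ V`, `V' ⟶ 𝒵`, over `𝒴`. -/
theorem exists_equiv_descent (f : 𝒳 ⥤ᵇ 𝒴) (z : 𝒵 ⥤ᵇ 𝒴) {V V' : Over S}
    (y : FibCat.overCat V ⥤ᵇ 𝒴) (y'' : FibCat.overCat V' ⥤ᵇ 𝒵) (p : V' ⟶ V)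
    (ω : BasedFunctor.comp (AlgSt.overMap p) y ≅ BasedFunctor.comp y'' z) :
    ∃ n : FibCat.fp (FibCat.fpSnd f y) (AlgSt.overMap p) ⥤ᵇ FibCat.fp (FibCat.fpFst z f) y'',
      FibCat.IsEquivOver n ∧
      Nonempty (BasedFunctor.comp n (FibCat.fpSnd (FibCat.fpFst z f) y'') ≅
        FibCat.fpSnd (FibCat.fpSnd f y) (AlgSt.overMap p)) := by
  obtain ⟨Φ, hΦ, -, hΦ2⟩ := exists_equiv_fp_congr_right_both f
    (BasedFunctor.comp (AlgSt.overMap p) y) (BasedFunctor.comp y'' z) ω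
  obtain ⟨B', hB', -, ⟨ε⟩⟩ := isEquivOver_inverse (bcEquiv_isEquivOver z f y'')
  let A := Paste.pasteA f y (AlgSt.overMap p)
  refine ⟨BasedFunctor.comp (BasedFunctor.comp A Φ) B',
    ReprInv.isEquivOver_comp (ReprInv.isEquivOver_comp (Paste.pasteA_isEquivOver _ _ _) hΦ) hB',
    ⟨?_⟩⟩
  have e1 : BasedFunctor.comp (BasedFunctor.comp (BasedFunctor.comp A Φ) B')
      (FibCat.fpSnd (FibCat.fpFst z f) y'') ≅
      BasedFunctor.comp (BasedFunctor.comp A Φ) (FibCat.fpSnd f (BasedFunctor.comp y'' z)) :=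
    whiskerLeftIso (BasedFunctor.comp A Φ)
      ((postF _ (FibCat.fpSnd f (BasedFunctor.comp y'' z))).mapIso ε)
  refine e1 ≪≫ eqToIso ?_
  change BasedFunctor.comp A (BasedFunctor.comp Φ (FibCat.fpSnd f (BasedFunctor.comp y'' z))) = _
  rw [hΦ2]
  rfl

end Groth.Agent.Helper2.AlgStLib.LocQ

namespace Groth.Agent.Helper2.AlgStLib.LocQ

open Groth.Agent.Helper2 Groth.Agent.Helper2.FibCatLib Groth.Agent.Helper2.StkLib
open Groth.Agent.Helper2.AlgSpBasic Groth.Agent.Helper2.EtaleLocal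
open Groth.Agent.Helper2.AlgStLib Groth.Agent.Helper2.AlgStLib.Pts

variable {S : Scheme.{u}} {𝒳 𝒴 𝒵 𝒬 : BasedCategory.{u, u + 1} (Over S)}

theorem isFppfCover_single {W T : Over S} (a : W ⟶ T) [Flat a.left]
    [LocallyOfFinitePresentation a.left] [Surjective a.left] :
    AlgSp.IsFppfCover (fun _ : PUnit.{u + 1} => (AlgSp.yon S).obj W)
      (fun _ => (AlgSp.yon S).map a) := by
  refine ⟨fun _ => ⟨?_, ?_⟩, fun x => ?_⟩
  · exact locP_of_repWith @Flat (AlgSp.IsAlgSpace.yon_obj W).diag _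
      ((AlgSp.repWith_yon_map_iff @Flat a).2 inferInstance)
  · exact locP_of_repWith @LocallyOfFinitePresentation (AlgSp.IsAlgSpace.yon_obj W).diag _
      ((AlgSp.repWith_yon_map_iff @LocallyOfFinitePresentation a).2 inferInstance)
  · obtain ⟨v, hv⟩ := (surjectiveMor_yon_map_iff a).2 (Surjective.surj (f := a.left)) x
    exact ⟨PUnit.unit, v, hv⟩

/-- `S12994`: a property that is smooth local on source-and-target and fppf local on the base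
descends along flat, locally finitely presented, surjective morphisms of algebraic stacks. -/
theorem locQ_of_fpFst_of_fppf {P : MorphismProperty (AlgSp.Sp S)} (hP : AlgSp.IsSmoothLocalST P)
    (hP₂ : AlgSp.IsLocalOnBase AlgSp.IsFppfCover P)
    (h𝒳 : AlgSt.IsAlgStack Scheme.fppfPrecoverage 𝒳)
    (h𝒴 : AlgSt.IsAlgStack Scheme.fppfPrecoverage 𝒴)
    (h𝒵 : AlgSt.IsAlgStack Scheme.fppfPrecoverage 𝒵) (f : 𝒳 ⥤ᵇ 𝒴) (z : 𝒵 ⥤ᵇ 𝒴)
    (hz₁ : AlgSt.LocQ (AlgSp.LocP @Flat) z)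
    (hz₂ : AlgSt.LocQ (AlgSp.LocP @LocallyOfFinitePresentation) z)
    (hz₃ : AlgSt.IsSurjective z) (h : AlgSt.LocQ P (FibCat.fpFst z f)) : AlgSt.LocQ P f := by
  obtain ⟨V, y, hy1, hy2⟩ := h𝒴.atlas
  have hV : FibCat.IsFibGrpd (FibCat.overCat V).p := isFibGrpd_overCat V
  have h𝒬 : AlgSt.IsAlgStack Scheme.fppfPrecoverage (FibCat.fp f y) :=
    isAlgStack_fp _ h𝒳 (isAlgStack_overCat V) h𝒴 f y
  obtain ⟨U, c, hc1, hc2⟩ := h𝒬.atlas
  obtain ⟨θk⟩ := nonempty_iso_overMap_classify (BasedFunctor.comp c (FibCat.fpSnd f y))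
  have h𝒬z : AlgSt.IsAlgStack Scheme.fppfPrecoverage (FibCat.fp z y) :=
    isAlgStack_fp _ h𝒵 (isAlgStack_overCat V) h𝒴 z y
  obtain ⟨V', v', hv1, hv2⟩ := h𝒬z.atlas
  have hV' : FibCat.IsFibGrpd (FibCat.overCat V').p := isFibGrpd_overCat V'
  obtain ⟨θp⟩ := nonempty_iso_overMap_classify (BasedFunctor.comp v' (FibCat.fpSnd z y))
  generalize hk : OverFun.classify (BasedFunctor.comp c (FibCat.fpSnd f y)) = k at θk
  generalize hp : OverFun.classify (BasedFunctor.comp v' (FibCat.fpSnd z y)) = p at θp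
  have hp1 := prop_of_locQ isSmoothLocalST_locP_flat h𝒵 h𝒴 z hz₁ y hy1 v' hv1 p θp
  have hp2 := prop_of_locQ isSmoothLocalST_locP_lfp h𝒵 h𝒴 z hz₂ y hy1 v' hv1 p θp
  rw [locP_yon_map_iff] at hp1 hp2
  have : Flat p.left := hp1
  have : LocallyOfFinitePresentation p.left := hp2
  have : Surjective p.left := surjective_of_chart_of_isSurjective h𝒬z.isStack.1 v' _ p θp hv2
    (isSurjective_fpSnd h𝒵.isStack.1 h𝒴.isStack.1 hV z y hz₃)
  have hy'' : Sm (BasedFunctor.comp v' (FibCat.fpFst z y)) :=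
    sm_comp hV' h𝒬z.isStack.1 _ _ hv1 (repByAlgSpWith_fpFst _ y z hy1)
  have ω : BasedFunctor.comp (AlgSt.overMap p) y ≅
      BasedFunctor.comp (BasedFunctor.comp v' (FibCat.fpFst z y)) z :=
    (postF _ y).mapIso θp.symm ≪≫ whiskerLeftIso v' (FibCat.fpIso z y).symm
  -- the pullback `U ×_V V'`
  let X : AlgSp.Sp S := pullback ((AlgSp.yon S).map k) ((AlgSp.yon S).map p)
  let pr₁ : X ⟶ (AlgSp.yon S).obj U := pullback.fst _ _
  let pr₂ : X ⟶ (AlgSp.yon S).obj V' := pullback.snd _ _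
  have sq : IsPullback pr₁ pr₂ ((AlgSp.yon S).map k) ((AlgSp.yon S).map p) :=
    IsPullback.of_hasPullback _ _
  have hUs := AlgSp.IsAlgSpace.yon_obj U
  have hVs := AlgSp.IsAlgSpace.yon_obj V
  have hV's := AlgSp.IsAlgSpace.yon_obj V'
  have hX : AlgSp.IsAlgSpace X := isAlgSpace_of_isPullback hVs.diag hUs hV's _ _ _ _ sq
  obtain ⟨m, hm, hmQ⟩ := exists_bc_chart (FibCat.fpSnd f y) c k θk p pr₁ pr₂ sq
  obtain ⟨n, hn, ⟨en⟩⟩ := exists_equiv_descent f z y (BasedFunctor.comp v' (FibCat.fpFst z y)) p ω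
  have hm' : Sm (BasedFunctor.comp m n) := (repByAlgSpWith_comp_equiv _ m n hn).2 (hmQ _ hc1)
  obtain ⟨T, cT, kT, τ, ⟨θT⟩, hs1, -, hτ1, hτ2, key⟩ := exists_chart_of_space hX
    (BasedFunctor.comp m n) (FibCat.fpSnd (FibCat.fpFst z f) (BasedFunctor.comp v' (FibCat.fpFst z y)))
  have h1 : P ((AlgSp.yon S).map kT) :=
    prop_of_locQ hP (isAlgStack_fp _ h𝒵 h𝒳 h𝒴 z f) h𝒵 (FibCat.fpFst z f) h _ hy'' cT (hs1 hm') kT θT
  have h2 : AlgSt.spMapOfOver (BasedFunctor.comp (BasedFunctor.comp m n)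
      (FibCat.fpSnd (FibCat.fpFst z f) (BasedFunctor.comp v' (FibCat.fpFst z y)))) = pr₂ := by
    have e : BasedFunctor.comp (BasedFunctor.comp m n)
        (FibCat.fpSnd (FibCat.fpFst z f) (BasedFunctor.comp v' (FibCat.fpFst z y))) ≅
        BasedFunctor.comp (AlgSt.ofSpMap pr₂) (AlgSt.toOverCat V') :=
      whiskerLeftIso m en ≪≫ eqToIso hm
    rw [spMapOfOver_congr e.hom, spMapOfOver_ofPshMap_toOverCat]
  rw [key, h2] at h1
  have h3 : P pr₂ := prop_of_smooth_cover hP (AlgSp.IsAlgSpace.yon_obj T) hX hV's τ pr₂ hτ1 hτ2 h1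
  have h4 : P ((AlgSp.yon S).map k) :=
    (hP₂ (fun _ : PUnit.{u + 1} => (AlgSp.yon S).obj V') (fun _ => (AlgSp.yon S).map p) hVs
      (fun _ => hV's) (isFppfCover_single p) ((AlgSp.yon S).map k) hUs (fun _ => X)
      (fun _ => pr₂) (fun _ => pr₁) (fun _ => hX) (fun _ => sq)).2 (fun _ => h3)
  exact locQ_of_chart h𝒳 h𝒴 f y hy1 hy2 c hc1 hc2 k θk h4

end Groth.Agent.Helper2.AlgStLib.LocQ

namespace Groth.Agent.Helper2.AlgStLib.LocQ

open Groth.Agent.Helper2 Groth.Agent.Helper2.FibCatLib Groth.Agent.Helper2.StkLib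
open Groth.Agent.Helper2.AlgSpBasic Groth.Agent.Helper2.EtaleLocal
open Groth.Agent.Helper2.AlgStLib Groth.Agent.Helper2.AlgStLib.Pts

variable {S : Scheme.{u}} {𝒳 𝒴 𝒵 𝒬 : BasedCategory.{u, u + 1} (Over S)}

/-- For a functor representable by algebraic spaces, a property étale local on source-and-target
(with the usual descent) holds on chart squares as soon as it holds in the representable
sense. -/
theorem locQ_locP_of_repByAlgSpWith (Q : MorphismProperty Scheme.{u}) [IsEtaleLocalST Q]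
    [IsZariskiLocalAtTarget Q] [Q.DescendsAlong (@Surjective ⊓ @Flat ⊓ @QuasiCompact)]
    (hQ : AlgSp.IsSmoothLocalST (S := S) (AlgSp.LocP Q))
    (h𝒳 : AlgSt.IsAlgStack Scheme.fppfPrecoverage 𝒳)
    (h𝒴 : AlgSt.IsAlgStack Scheme.fppfPrecoverage 𝒴) (f : 𝒳 ⥤ᵇ 𝒴)
    (hf : AlgSt.RepByAlgSpWith (AlgSp.LocP Q) f) : AlgSt.LocQ (AlgSp.LocP Q) f :=
  (locQ_iff_repByAlgSpWith hQ (stableBC_locP Q) (isLocalOnBase_fppf_locP Q) h𝒳 h𝒴 f
    (repByAlgSp1_of_repByAlgSpWith f hf)).2 hf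

/-- `S13000`. -/
theorem locQ_lft_of_fpFst_space (h𝒳 : AlgSt.IsAlgStack Scheme.fppfPrecoverage 𝒳)
    (h𝒴 : AlgSt.IsAlgStack Scheme.fppfPrecoverage 𝒴) (f : 𝒳 ⥤ᵇ 𝒴)
    (W : AlgSp.Space S) (w : AlgSt.ofSp W.obj ⥤ᵇ 𝒴)
    (hw₁ : AlgSt.RepByAlgSpWith (AlgSp.LocP @Flat) w)
    (hw₂ : AlgSt.RepByAlgSpWith (AlgSp.LocP @LocallyOfFinitePresentation) w)
    (hw₃ : AlgSt.RepByAlgSpWith AlgSp.IsSurjectiveMor w)
    (h : AlgSt.LocQ (AlgSp.LocP @LocallyOfFiniteType) (FibCat.fpFst w f)) :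
    AlgSt.LocQ (AlgSp.LocP @LocallyOfFiniteType) f :=
  locQ_of_fpFst_of_fppf isSmoothLocalST_locP_lft (isLocalOnBase_fppf_locP _) h𝒳 h𝒴
    (isAlgStack_ofSp W) f w
    (locQ_locP_of_repByAlgSpWith @Flat isSmoothLocalST_locP_flat (isAlgStack_ofSp W) h𝒴 w hw₁)
    (locQ_locP_of_repByAlgSpWith @LocallyOfFinitePresentation isSmoothLocalST_locP_lfp
      (isAlgStack_ofSp W) h𝒴 w hw₂)
    (isSurjective_of_repByAlgSpWith h𝒴.isStack.1 w hw₃) h

end Groth.Agent.Helper2.AlgStLib.LocQ
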