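import Mathlib
import Groth.Prelude.Def_AlgSt4
import Groth.Prelude.Def_AlgSpCov
import Groth.Agent.Lib.Helper2.AlgSt.LocQ.Descent
import Groth.Agent.Lib.Helper2.AlgSt.Pts.QCDescent

/-!
# fppf descent on the target for representable morphisms and for quasi-compactness (helper2)
-/

set_option autoImplicit false
open CategoryTheory CategoryTheory.Functor CategoryTheory.Limits AlgebraicGeometry Opposite

universe u

namespace Groth.Agent.Helper2.AlgStLib.LocQ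

open Groth.Agent.Helper2 Groth.Agent.Helper2.FibCatLib Groth.Agent.Helper2.StkLib
open Groth.Agent.Helper2.AlgSpBasic Groth.Agent.Helper2.EtaleLocal
open Groth.Agent.Helper2.AlgStLib Groth.Agent.Helper2.AlgStLib.Pts

variable {S : Scheme.{u}} {𝒳 𝒴 𝒵 𝒲 : BasedCategory.{u, u + 1} (Over S)}

/-- **Locality on an fppf chart of the target.** A functor representable by algebraic spaces
has `P` as soon as its base change along a flat, locally finitely presented, surjective functor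
representable by algebraic spaces has `P`. -/
theorem repByAlgSpWith_of_fppf_chart (P : MorphismProperty (AlgSp.Sp S)) (hPb : StableBC P)
    (hPl : AlgSp.IsLocalOnBase AlgSp.IsFppfCover P)
    (h𝒴 : FibCat.IsFibGrpd 𝒴.p) (f : 𝒳 ⥤ᵇ 𝒴) (hf : AlgSt.RepByAlgSp1 f)
    (w : 𝒲 ⥤ᵇ 𝒴) (hw₁ : AlgSt.RepByAlgSpWith (AlgSp.LocP @Flat) w)
    (hw₂ : AlgSt.RepByAlgSpWith (AlgSp.LocP @LocallyOfFinitePresentation) w)
    (hw₃ : AlgSt.RepByAlgSpWith AlgSp.IsSurjectiveMor w)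
    (h : AlgSt.RepByAlgSpWith P (FibCat.fpFst w f)) : AlgSt.RepByAlgSpWith P f := by
  rw [repByAlgSpWith_iff]
  intro T t
  obtain ⟨V₀, c₀, h₀, ⟨θ⟩, -, hfl, hfp, hsurj⟩ := exists_chart_fp h𝒴 w hw₁ hw₂ T t
  have : Flat h₀.left := hfl
  have : LocallyOfFinitePresentation h₀.left := hfp
  have : Surjective h₀.left := hsurj hw₃
  refine repOver_of_cover P hPb hPl (FibCat.fpFst t f) (hf T t)
    (fun _ : PUnit.{u + 1} => V₀) (fun _ => h₀) (isFppfCover_single h₀) (fun _ => ?_)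
  have ω : BasedFunctor.comp (AlgSt.overMap h₀) t ≅
      BasedFunctor.comp (BasedFunctor.comp c₀ (FibCat.fpSnd t w)) w :=
    (postF _ t).mapIso θ.symm ≪≫ whiskerLeftIso c₀ (FibCat.fpIso t w)
  have h1 : RepOver P (FibCat.fp (BasedFunctor.comp c₀ (FibCat.fpSnd t w)) (FibCat.fpFst w f))
      (FibCat.fpFst (BasedFunctor.comp c₀ (FibCat.fpSnd t w)) (FibCat.fpFst w f)) :=
    (repByAlgSpWith_iff P _).1 h V₀ _
  have h2 : RepOver P
      (FibCat.fp (BasedFunctor.comp (BasedFunctor.comp c₀ (FibCat.fpSnd t w)) w) f)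
      (FibCat.fpFst (BasedFunctor.comp (BasedFunctor.comp c₀ (FibCat.fpSnd t w)) w) f) :=
    (repOver_iff_of_equiv P _ _ (Paste.pasteB (BasedFunctor.comp c₀ (FibCat.fpSnd t w)) w f)
      (Paste.pasteB_isEquivOver _ w f) (Iso.refl _)).1 h1
  obtain ⟨Φ, hΦ, hΦfst⟩ := exists_equiv_fp_congr_fst (BasedFunctor.comp (AlgSt.overMap h₀) t)
    (BasedFunctor.comp (BasedFunctor.comp c₀ (FibCat.fpSnd t w)) w) f ω
  have h3 : RepOver P (FibCat.fp (BasedFunctor.comp (AlgSt.overMap h₀) t) f)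
      (FibCat.fpFst (BasedFunctor.comp (AlgSt.overMap h₀) t) f) :=
    (repOver_iff_of_equiv P (FibCat.fpFst (BasedFunctor.comp (AlgSt.overMap h₀) t) f)
      (FibCat.fpFst (BasedFunctor.comp (BasedFunctor.comp c₀ (FibCat.fpSnd t w)) w) f) Φ hΦ
      (eqToIso hΦfst)).2 h2
  exact (repOver_iff_of_equiv P (FibCat.fpFst (AlgSt.overMap h₀) (FibCat.fpFst t f))
    (FibCat.fpFst (BasedFunctor.comp (AlgSt.overMap h₀) t) f)
    (Paste.pasteB (AlgSt.overMap h₀) t f)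
    (Paste.pasteB_isEquivOver (AlgSt.overMap h₀) t f) (Iso.refl _)).2 h3

/-- A smooth surjective chart of the source of a flat, locally finitely presented, surjective
morphism of algebraic stacks gives an fppf chart of the target. -/
theorem fppf_chart_of_locQ (h𝒵 : AlgSt.IsAlgStack Scheme.fppfPrecoverage 𝒵)
    (h𝒴 : AlgSt.IsAlgStack Scheme.fppfPrecoverage 𝒴) (z : 𝒵 ⥤ᵇ 𝒴)
    (hz₁ : AlgSt.LocQ (AlgSp.LocP @Flat) z)
    (hz₂ : AlgSt.LocQ (AlgSp.LocP @LocallyOfFinitePresentation) z)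
    (hz₃ : AlgSt.IsSurjective z) {W : Over S} (w : FibCat.overCat W ⥤ᵇ 𝒵) (hw1 : Sm w)
    (hw2 : Sj w) :
    AlgSt.RepByAlgSpWith (AlgSp.LocP @Flat) (BasedFunctor.comp w z) ∧
    AlgSt.RepByAlgSpWith (AlgSp.LocP @LocallyOfFinitePresentation) (BasedFunctor.comp w z) ∧
    AlgSt.RepByAlgSpWith AlgSp.IsSurjectiveMor (BasedFunctor.comp w z) := by
  have hW := isAlgStack_overCat (S := S) W
  have hrep : AlgSt.RepByAlgSp1 (BasedFunctor.comp w z) := repByAlgSp1_chart h𝒴 _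
  refine ⟨?_, ?_, ?_⟩
  · have h1 : AlgSt.LocQ (AlgSp.LocP @Flat) w :=
      locQ_locP_of_repByAlgSpWith @Flat isSmoothLocalST_locP_flat hW h𝒵 w
        (repByAlgSpWith_flat_of_smooth hw1)
    have h2 := locQ_comp (IsSmoothStable.of_local isSmoothLocalST_locP_flat)
      (stableComp_locP _) hW h𝒵 h𝒴 w z h1 hz₁
    exact (locQ_iff_repByAlgSpWith isSmoothLocalST_locP_flat (stableBC_locP _)
      (isLocalOnBase_fppf_locP _) hW h𝒴 _ hrep).1 h2
  · have h1 : AlgSt.LocQ (AlgSp.LocP @LocallyOfFinitePresentation) w :=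
      locQ_locP_of_repByAlgSpWith @LocallyOfFinitePresentation isSmoothLocalST_locP_lfp hW h𝒵 w
        (repByAlgSpWith_lfp_of_smooth hw1)
    have h2 := locQ_comp (IsSmoothStable.of_local isSmoothLocalST_locP_lfp)
      (stableComp_locP _) hW h𝒵 h𝒴 w z h1 hz₂
    exact (locQ_iff_repByAlgSpWith isSmoothLocalST_locP_lfp (stableBC_locP _)
      (isLocalOnBase_fppf_locP _) hW h𝒴 _ hrep).1 h2
  · exact repByAlgSpWith_of_isSurjective (isFibGrpd_overCat W) h𝒴.isStack.1 _ hrep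
      (isSurjective_comp w z (isSurjective_of_repByAlgSpWith h𝒵.isStack.1 w hw2) hz₃)

/-- `S12995`. -/
theorem repByAlgSpWith_iff_fpFst_of_fppf (P : MorphismProperty (AlgSp.Sp S)) (hPb : StableBC P)
    (hPl : AlgSp.IsLocalOnBase AlgSp.IsFppfCover P)
    (h𝒴 : AlgSt.IsAlgStack Scheme.fppfPrecoverage 𝒴) (f : 𝒳 ⥤ᵇ 𝒴) (hf : AlgSt.RepByAlgSp1 f)
    (h𝒵 : AlgSt.IsAlgStack Scheme.fppfPrecoverage 𝒵) (z : 𝒵 ⥤ᵇ 𝒴)
    (hz₁ : AlgSt.LocQ (AlgSp.LocP @Flat) z)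
    (hz₂ : AlgSt.LocQ (AlgSp.LocP @LocallyOfFinitePresentation) z)
    (hz₃ : AlgSt.IsSurjective z) :
    AlgSt.RepByAlgSpWith P f ↔ AlgSt.RepByAlgSpWith P (FibCat.fpFst z f) := by
  constructor
  · exact repByAlgSpWith_fpFst P f z
  · intro h
    obtain ⟨W, w, hw1, hw2⟩ := h𝒵.atlas
    obtain ⟨h1, h2, h3⟩ := fppf_chart_of_locQ h𝒵 h𝒴 z hz₁ hz₂ hz₃ w hw1 hw2
    refine repByAlgSpWith_of_fppf_chart P hPb hPl h𝒴.isStack.1 f hf (BasedFunctor.comp w z)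
      h1 h2 h3 ?_
    have h4 : AlgSt.RepByAlgSpWith P (FibCat.fpFst w (FibCat.fpFst z f)) :=
      repByAlgSpWith_fpFst P (FibCat.fpFst z f) w h
    exact (repByAlgSpWith_equiv_comp P (Paste.pasteB w z f) (Paste.pasteB_isEquivOver w z f)
      (FibCat.fpFst (BasedFunctor.comp w z) f)).1 h4

/-- `S13009`. -/
theorem isQuasiCompactMor_of_fpFst_of_locQ (h𝒳 : AlgSt.IsAlgStack Scheme.fppfPrecoverage 𝒳)
    (h𝒴 : AlgSt.IsAlgStack Scheme.fppfPrecoverage 𝒴)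
    (h𝒵 : AlgSt.IsAlgStack Scheme.fppfPrecoverage 𝒵) (f : 𝒳 ⥤ᵇ 𝒴) (z : 𝒵 ⥤ᵇ 𝒴)
    (hz₁ : AlgSt.LocQ (AlgSp.LocP @Flat) z)
    (hz₂ : AlgSt.LocQ (AlgSp.LocP @LocallyOfFinitePresentation) z)
    (hz₃ : AlgSt.IsSurjective z)
    (hq : AlgSt.IsQuasiCompactMor Scheme.fppfPrecoverage (FibCat.fpFst z f)) :
    AlgSt.IsQuasiCompactMor Scheme.fppfPrecoverage f := by
  obtain ⟨W, w, hw1, hw2⟩ := h𝒵.atlas
  have hW := isAlgStack_overCat (S := S) W
  obtain ⟨h1, h2, h3⟩ := fppf_chart_of_locQ h𝒵 h𝒴 z hz₁ hz₂ hz₃ w hw1 hw2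
  refine isQuasiCompactMor_of_fpFst_of_fppf_rep h𝒳 h𝒴 hW f (BasedFunctor.comp w z) h1 h2 h3 ?_
  have h4 : AlgSt.IsQuasiCompactMor Scheme.fppfPrecoverage
      (FibCat.fpFst w (FibCat.fpFst z f)) := isQuasiCompactMor_fpFst _ (FibCat.fpFst z f) w hq
  have hA : AlgSt.IsAlgStack Scheme.fppfPrecoverage (FibCat.fp z f) :=
    isAlgStack_fp _ h𝒵 h𝒳 h𝒴 z f
  exact isQuasiCompactMor_of_comp_of_isSurjective (isAlgStack_fp _ hW hA h𝒵 w (FibCat.fpFst z f))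
    (isAlgStack_fp _ hW h𝒳 h𝒴 (BasedFunctor.comp w z) f) hW (Paste.pasteB w z f)
    (FibCat.fpFst (BasedFunctor.comp w z) f)
    (isSurjective_of_isEquivOver _ (Paste.pasteB_isEquivOver w z f)) h4

end Groth.Agent.Helper2.AlgStLib.LocQ
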