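import Mathlib
import Groth.Prelude.Def_AlgSt4
import Groth.Prelude.Def_AlgSpCov
import Groth.Agent.Lib.Helper2.AlgSt.LocQ.Descent2

/-!
# Scheme charts of the base change of a flat, locally finitely presented morphism (helper2)
-/

set_option autoImplicit false
open CategoryTheory CategoryTheory.Functor CategoryTheory.Limits AlgebraicGeometry Opposite

universe u

namespace Groth.Agent.Helper2.AlgStLib.LocQ

open Groth.Agent.Helper2 Groth.Agent.Helper2.FibCatLib Groth.Agent.Helper2.StkLib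
open Groth.Agent.Helper2.AlgSpBasic Groth.Agent.Helper2.EtaleLocal
open Groth.Agent.Helper2.AlgStLib Groth.Agent.Helper2.AlgStLib.Pts

variable {S : Scheme.{u}} {𝒳 𝒴 : BasedCategory.{u, u + 1} (Over S)}

/-- For `f` with a chart-square property `LocP Q`, `Q` étale local on source-and-target,
containing the smooth morphisms, every `y : V ⟶ 𝒴` from a scheme has a smooth surjective scheme
chart `c : T ⟶ 𝒳 ×_𝒴 V` whose composite `T ⟶ V` has `Q`. -/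
theorem exists_chart_bc_of_locQ (Q : MorphismProperty Scheme.{u}) [IsEtaleLocalST Q]
    (hQ : @Smooth ≤ Q) (hQl : AlgSp.IsSmoothLocalST (S := S) (AlgSp.LocP Q))
    (h𝒳 : AlgSt.IsAlgStack Scheme.fppfPrecoverage 𝒳)
    (h𝒴 : AlgSt.IsAlgStack Scheme.fppfPrecoverage 𝒴) (f : 𝒳 ⥤ᵇ 𝒴)
    (hf : AlgSt.LocQ (AlgSp.LocP Q) f) {V : Over S} (y : FibCat.overCat V ⥤ᵇ 𝒴) :
    ∃ (T : Over S) (c : FibCat.overCat T ⥤ᵇ FibCat.fp f y) (k : T ⟶ V),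
      Nonempty (BasedFunctor.comp c (FibCat.fpSnd f y) ≅ AlgSt.overMap k) ∧ Sm c ∧ Sj c ∧
        Q k.left := by
  obtain ⟨U₀, V₀, x₀, y₀, h₀, α₀, hx₀, hx₀', hy₀, hh₀⟩ := hf
  obtain ⟨T, c, k, e, h1, h2, h3⟩ :=
    exists_chart_of_square_bc (isSmoothStable_locP Q hQ) (stableBC_locP Q) h𝒴 f x₀ y₀ h₀ α₀
      hx₀ hx₀' hy₀ hh₀ y
  exact ⟨T, c, k, e, h1, h2, (locP_yon_map_iff Q k).1 h3⟩

/-- Two chart-square properties can be read on one chart. -/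
theorem exists_chart_bc_of_locQ_inf (Q Q' : MorphismProperty Scheme.{u}) [IsEtaleLocalST Q]
    [IsEtaleLocalST Q'] (hQ : @Smooth ≤ Q) (hQ' : @Smooth ≤ Q')
    (hQl : AlgSp.IsSmoothLocalST (S := S) (AlgSp.LocP Q))
    (hQl' : AlgSp.IsSmoothLocalST (S := S) (AlgSp.LocP Q'))
    (h𝒳 : AlgSt.IsAlgStack Scheme.fppfPrecoverage 𝒳)
    (h𝒴 : AlgSt.IsAlgStack Scheme.fppfPrecoverage 𝒴) (f : 𝒳 ⥤ᵇ 𝒴)
    (hf : AlgSt.LocQ (AlgSp.LocP Q) f) (hf' : AlgSt.LocQ (AlgSp.LocP Q') f)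
    {V : Over S} (y : FibCat.overCat V ⥤ᵇ 𝒴) :
    ∃ (T : Over S) (c : FibCat.overCat T ⥤ᵇ FibCat.fp f y) (k : T ⟶ V),
      Nonempty (BasedFunctor.comp c (FibCat.fpSnd f y) ≅ AlgSt.overMap k) ∧ Sm c ∧ Sj c ∧
        Q k.left ∧ Q' k.left := by
  -- a good square on which both properties can be read
  obtain ⟨V₀, y₀, hy1, hy2⟩ := h𝒴.atlas
  have h𝒬 : AlgSt.IsAlgStack Scheme.fppfPrecoverage (FibCat.fp f y₀) :=
    isAlgStack_fp _ h𝒳 (isAlgStack_overCat V₀) h𝒴 f y₀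
  obtain ⟨U₀, c₀, hc1, hc2⟩ := h𝒬.atlas
  obtain ⟨h, α, ⟨e⟩, hx, hl, hs⟩ := exists_good_square h𝒳 h𝒴 f y₀ hy1 c₀ hc1
  have k1 : AlgSp.LocP Q ((AlgSp.yon S).map h) := prop_of_locQ hQl h𝒳 h𝒴 f hf y₀ hy1 c₀ hc1 h e
  have k2 : AlgSp.LocP Q' ((AlgSp.yon S).map h) :=
    prop_of_locQ hQl' h𝒳 h𝒴 f hf' y₀ hy1 c₀ hc1 h e
  have k3 : AlgSp.LocP (Q ⊓ Q') ((AlgSp.yon S).map h) :=
    (locP_yon_map_iff (Q ⊓ Q') h).2 ⟨(locP_yon_map_iff Q h).1 k1, (locP_yon_map_iff Q' h).1 k2⟩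
  obtain ⟨T, c, k, e', h1, h2, h3⟩ :=
    exists_chart_of_square_bc (isSmoothStable_locP (Q ⊓ Q') (le_inf hQ hQ'))
      (stableBC_locP (Q ⊓ Q')) h𝒴 f _ y₀ h α hx (hs hy2 hc2) hy1 k3 y
  exact ⟨T, c, k, e', h1, h2, ((locP_yon_map_iff (Q ⊓ Q') k).1 h3).1,
    ((locP_yon_map_iff (Q ⊓ Q') k).1 h3).2⟩

/-- A point of the chart `V` whose image in `|𝒴|` lies in the image of `|𝒳|` lifts to every
surjective chart of `𝒳 ×_𝒴 V`. -/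
theorem exists_point_of_chart_fp (h𝒳 : FibCat.IsFibGrpd 𝒳.p) (h𝒴 : FibCat.IsFibGrpd 𝒴.p)
    (f : 𝒳 ⥤ᵇ 𝒴) {V T : Over S} (y : FibCat.overCat V ⥤ᵇ 𝒴)
    (c : FibCat.overCat T ⥤ᵇ FibCat.fp f y) (k : T ⟶ V)
    (θ : BasedFunctor.comp c (FibCat.fpSnd f y) ≅ AlgSt.overMap k) (hc : Sj c)
    (h𝒬 : FibCat.IsFibGrpd (FibCat.fp f y).p) (v : ↥V.left)
    (hv : AlgSt.Points.ofChart y v ∈ Set.range (AlgSt.Points.map f)) :
    ∃ t : ↥T.left, k.left t = v := by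
  obtain ⟨p, hp⟩ := hv
  have hV : FibCat.IsFibGrpd (FibCat.overCat V).p := isFibGrpd_overCat V
  obtain ⟨w, -, hw⟩ := exists_points_fp_of_map_eq hV h𝒴 h𝒳 y f p (ptEquiv V v)
    (by rw [hp, ofChart_eq_map_ptEquiv])
  obtain ⟨t, rfl⟩ := surjective_ofChart h𝒬 c hc w
  refine ⟨t, (ptEquiv V).injective ?_⟩
  rw [← hw, map_ofChart, ofChart_congr θ, ofChart_eq_map_ptEquiv, map_overMap_ptEquiv]

end Groth.Agent.Helper2.AlgStLib.LocQ
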