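import Mathlib
import Groth.Prelude.Def_AlgSt4
import Groth.Prelude.Def_AlgSpCov
import Groth.Agent.Lib.Helper2.AlgSt.LocQ.Descent2
import Groth.Agent.S0116

/-!
# Chart squares: algebraic spaces, algebraic space charts, Noetherian targets, diagonals (helper2)
-/

set_option autoImplicit false
open CategoryTheory CategoryTheory.Functor CategoryTheory.Limits AlgebraicGeometry Opposite

universe u

namespace Groth.Agent.Helper2.AlgStLib.LocQ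

open Groth.Agent.Helper2 Groth.Agent.Helper2.FibCatLib Groth.Agent.Helper2.StkLib
open Groth.Agent.Helper2.AlgSpBasic Groth.Agent.Helper2.EtaleLocal
open Groth.Agent.Helper2.AlgStLib Groth.Agent.Helper2.AlgStLib.Pts

variable {S : Scheme.{u}} {𝒳 𝒴 𝒵 𝒜 : BasedCategory.{u, u + 1} (Over S)}

section General

variable {P : MorphismProperty (AlgSp.Sp S)}

/-- `f` has `P` on a chart square as soon as, for one smooth surjective chart `y` of the target,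
`V ×_𝒴 𝒳` is an algebraic space whose map to `V` has `P`. -/
theorem locQ_of_rep_atlas (hP : IsSmoothStable P) (h𝒳 : AlgSt.IsAlgStack Scheme.fppfPrecoverage 𝒳)
    (h𝒴 : AlgSt.IsAlgStack Scheme.fppfPrecoverage 𝒴) (f : 𝒳 ⥤ᵇ 𝒴) {V : Over S}
    (y : FibCat.overCat V ⥤ᵇ 𝒴) (hy1 : Sm y) (hy2 : Sj y) (F : AlgSp.Space S)
    (e : AlgSt.ofSp F.obj ⥤ᵇ FibCat.fp y f) (he : FibCat.IsEquivOver e)
    (hb : P (AlgSt.spMapOfOver (BasedFunctor.comp e (FibCat.fpFst y f)))) : AlgSt.LocQ P f := by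
  obtain ⟨U, c, h, τ, ⟨θ⟩, hc, hc', hτ1, -, key⟩ := exists_chart_of_rep f y F e he
  refine locQ_of_chart h𝒳 h𝒴 f y hy1 hy2 c hc hc' h θ ?_
  rw [key]
  exact hP.precomp (AlgSp.IsAlgSpace.yon_obj U) F.property (AlgSp.IsAlgSpace.yon_obj V) τ _ hτ1 hb

/-- Postcomposition with a smooth functor. -/
theorem locQ_postcomp_sm (h𝒴 : FibCat.IsFibGrpd 𝒴.p) (f : 𝒳 ⥤ᵇ 𝒴) (y : 𝒴 ⥤ᵇ 𝒵)
    (hf : AlgSt.LocQ P f) (hy : Sm y) : AlgSt.LocQ P (BasedFunctor.comp f y) := by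
  obtain ⟨U₀, V₀, x₀, y₀, h₀, α₀, hx₀, hx₀', hy₀, hh₀⟩ := hf
  exact ⟨U₀, V₀, x₀, BasedFunctor.comp y₀ y, h₀, (postF _ y).mapIso α₀, hx₀, hx₀',
    sm_comp (isFibGrpd_overCat V₀) h𝒴 _ _ hy₀ hy, hh₀⟩

/-- Chart-square properties can be checked after precomposition with a smooth surjective
functor. -/
theorem locQ_of_precomp_sm_sj (h𝒜 : FibCat.IsFibGrpd 𝒜.p) (x : 𝒜 ⥤ᵇ 𝒳) (f : 𝒳 ⥤ᵇ 𝒴)
    (hx : Sm x) (hx' : Sj x) (hf : AlgSt.LocQ P (BasedFunctor.comp x f)) : AlgSt.LocQ P f := by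
  obtain ⟨U₀, V₀, x₀, y₀, h₀, α₀, hx₀, hx₀', hy₀, hh₀⟩ := hf
  exact ⟨U₀, V₀, BasedFunctor.comp x₀ x, y₀, h₀, α₀,
    sm_comp (isFibGrpd_overCat U₀) h𝒜 _ _ hx₀ hx, sj_comp (isFibGrpd_overCat U₀) h𝒜 _ _ hx₀' hx',
    hy₀, hh₀⟩

end General

section Spaces

variable {P : MorphismProperty (AlgSp.Sp S)} (hP : AlgSp.IsSmoothLocalST P)

include hP in
/-- `S12992`. -/
theorem locQ_ofSpMap_iff (F G : AlgSp.Space S) (a : F ⟶ G) :
    AlgSt.LocQ P (AlgSt.ofSpMap a.hom) ↔ P a.hom := by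
  have hF := isAlgStack_ofSp F
  have hG := isAlgStack_ofSp G
  obtain ⟨V, y, hy1, hy2⟩ := hG.atlas
  let b : (AlgSp.yon S).obj V ⟶ G.obj := ObjectProperty.homMk (secMap y)
  have hb1 : AlgSp.LocP @Smooth b :=
    prop_secMap_of_repByAlgSpWith _ (stableBC_locP _)
      (atlasLocal_of_fppf isLocalOnBase_fppf_locP_smooth) G.property y hy1
  have hb2 : AlgSp.IsSurjectiveMor b :=
    prop_secMap_of_repByAlgSpWith _ stableBC_isSurjectiveMor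
      (atlasLocal_of_fppf isLocalOnBase_fppf_isSurjectiveMor) G.property y hy2
  let X : AlgSp.Sp S := pullback a.hom b
  let pX₁ : X ⟶ F.obj := pullback.fst _ _
  let pX₂ : X ⟶ (AlgSp.yon S).obj V := pullback.snd _ _
  have sq : IsPullback pX₁ pX₂ a.hom b := IsPullback.of_hasPullback _ _
  have hV := AlgSp.IsAlgSpace.yon_obj V
  have hX : AlgSp.IsAlgSpace X :=
    isAlgSpace_of_isPullback G.property.diag F.property hV _ _ _ _ sq
  obtain ⟨θ⟩ := secMap_iso y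
  have sqP : IsPullback pX₂.hom pX₁.hom (secMap y) a.hom.hom :=
    (sq.flip.map (sheafToPresheaf (AlgSp.J S) (Type (u + 1))))
  obtain ⟨E, hE, hE1, -⟩ := exists_equiv_ofPsh_fp_both a.hom.hom y (secMap y) θ sqP
  have key : AlgSt.spMapOfOver (BasedFunctor.comp (E : AlgSt.ofSp X ⥤ᵇ _)
      (FibCat.fpFst y (AlgSt.ofSpMap a.hom))) = pX₂ := by
    rw [hE1]
    exact spMapOfOver_ofPshMap_toOverCat pX₂
  constructor
  · intro hq
    have h1 : P pX₂ := by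
      rw [← key]
      exact prop_spMapOfOver_of_locQ hP hF hG (AlgSt.ofSpMap a.hom) hq y hy1 ⟨X, hX⟩ E hE
    refine (IsSmoothLocalST.isLocalOnBase hP (fun _ : PUnit.{u + 1} => (AlgSp.yon S).obj V)
      (fun _ => b) G.property (fun _ => hV) ⟨fun _ => hb1, fun x => ?_⟩ a.hom F.property
      (fun _ => X) (fun _ => pX₂) (fun _ => pX₁) (fun _ => hX) (fun _ => sq)).2 (fun _ => h1)
    obtain ⟨v, hv⟩ := hb2 x
    exact ⟨PUnit.unit, v, hv⟩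
  · intro ha
    have h1 : P pX₂ := hP.baseChange F.property G.property hX hV a.hom b pX₂ pX₁ sq hb1 ha
    refine locQ_of_rep_atlas (IsSmoothStable.of_local hP) hF hG (AlgSt.ofSpMap a.hom) y hy1 hy2
      ⟨X, hX⟩ E hE ?_
    rw [key]
    exact h1

include hP in
/-- `S12991`. -/
theorem locQ_iff_exists_space_square (h𝒳 : AlgSt.IsAlgStack Scheme.fppfPrecoverage 𝒳)
    (h𝒴 : AlgSt.IsAlgStack Scheme.fppfPrecoverage 𝒴) (f : 𝒳 ⥤ᵇ 𝒴) :
    AlgSt.LocQ P f ↔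
      ∃ (U V : AlgSp.Space S) (x : AlgSt.ofSp U.obj ⥤ᵇ 𝒳) (y : AlgSt.ofSp V.obj ⥤ᵇ 𝒴) (h : U ⟶ V)
        (_ : BasedFunctor.comp x f ≅ BasedFunctor.comp (AlgSt.ofSpMap h.hom) y),
        Sm x ∧ Sj x ∧ Sm y ∧ P h.hom := by
  constructor
  · rintro ⟨U₀, V₀, x₀, y₀, h₀, α₀, hx₀, hx₀', hy₀, hh₀⟩
    let Φ : AlgSt.ofSp ((AlgSp.yon S).obj U₀) ⥤ᵇ FibCat.overCat V₀ :=
      BasedFunctor.comp (AlgSt.toOverCat U₀) (AlgSt.overMap h₀)
    obtain ⟨θ⟩ := ofSpMap_spMapOfOver_iso Φ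
    have hΦ : AlgSt.spMapOfOver Φ = (AlgSp.yon S).map h₀ := spMapOfOver_toOverCat_overMap h₀
    rw [hΦ] at θ
    refine ⟨⟨(AlgSp.yon S).obj U₀, AlgSp.IsAlgSpace.yon_obj U₀⟩,
      ⟨(AlgSp.yon S).obj V₀, AlgSp.IsAlgSpace.yon_obj V₀⟩,
      BasedFunctor.comp (AlgSt.toOverCat U₀) x₀, BasedFunctor.comp (AlgSt.toOverCat V₀) y₀,
      ObjectProperty.homMk ((AlgSp.yon S).map h₀), ?_, ?_, ?_, ?_, hh₀⟩
    · exact whiskerLeftIso (AlgSt.toOverCat U₀) α₀ ≪≫ (postF _ y₀).mapIso θ.symm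
    · exact (repByAlgSpWith_equiv_comp _ _ (toOverCat_isEquivOver U₀) x₀).2 hx₀
    · exact (repByAlgSpWith_equiv_comp _ _ (toOverCat_isEquivOver U₀) x₀).2 hx₀'
    · exact (repByAlgSpWith_equiv_comp _ _ (toOverCat_isEquivOver V₀) y₀).2 hy₀
  · rintro ⟨U, V, x, y, h, α, hx, hx', hy, hh⟩
    have h1 : AlgSt.LocQ P (AlgSt.ofSpMap h.hom) := (locQ_ofSpMap_iff hP U V h).2 hh
    have h2 : AlgSt.LocQ P (BasedFunctor.comp (AlgSt.ofSpMap h.hom) y) :=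
      locQ_postcomp_sm (Stk.isFibGrpd_ofPsh V.obj.obj) _ y h1 hy
    exact locQ_of_precomp_sm_sj (Stk.isFibGrpd_ofPsh U.obj.obj) x f hx hx' (locQ_congr α.symm h2)

end Spaces

section Noetherian

/-- `S12998`. -/
theorem smoothLocally_isLocallyNoetherian_of_locQ_lft
    (h𝒳 : AlgSt.IsAlgStack Scheme.fppfPrecoverage 𝒳)
    (h𝒴 : AlgSt.IsAlgStack Scheme.fppfPrecoverage 𝒴) (f : 𝒳 ⥤ᵇ 𝒴)
    (hf : AlgSt.LocQ (AlgSp.LocP @LocallyOfFiniteType) f)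
    (hN : AlgSt.SmoothLocally (fun T ↦ IsLocallyNoetherian T) 𝒴) :
    AlgSt.SmoothLocally (fun T ↦ IsLocallyNoetherian T) 𝒳 := by
  intro U x hx
  obtain ⟨V, y, hy1, hy2⟩ := h𝒴.atlas
  have hVN : IsLocallyNoetherian V.left := hN V y hy1
  have h𝒬 : AlgSt.IsAlgStack Scheme.fppfPrecoverage (FibCat.fp f y) :=
    isAlgStack_fp _ h𝒳 (isAlgStack_overCat V) h𝒴 f y
  obtain ⟨T, c, hc1, hc2⟩ := h𝒬.atlas
  obtain ⟨k, α, ⟨θ⟩, hx', -, hs⟩ := exists_good_square h𝒳 h𝒴 f y hy1 c hc1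
  have hk := prop_of_locQ isSmoothLocalST_locP_lft h𝒳 h𝒴 f hf y hy1 c hc1 k θ
  rw [locP_yon_map_iff] at hk
  have : LocallyOfFiniteType k.left := hk
  have hTN : IsLocallyNoetherian T.left := LocallyOfFiniteType.isLocallyNoetherian k.left
  obtain ⟨W, a₁, a₂, -, ha1, ha1', ha2, -⟩ :=
    exists_common_chart h𝒳 x (BasedFunctor.comp c (FibCat.fpFst f y))
  have : Smooth a₁.left := ha1 hx'
  have : Surjective a₁.left := ha1' (hs hy2 hc2)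
  have : Smooth a₂.left := ha2 hx
  have hWN : IsLocallyNoetherian W.left := LocallyOfFiniteType.isLocallyNoetherian a₂.left
  exact Groth.Agent.S0116.result a₁.left

/-- `S12999`. -/
theorem locQ_lfp_of_lft_of_isLocallyNoetherian
    (h𝒳 : AlgSt.IsAlgStack Scheme.fppfPrecoverage 𝒳)
    (h𝒴 : AlgSt.IsAlgStack Scheme.fppfPrecoverage 𝒴) (f : 𝒳 ⥤ᵇ 𝒴)
    (hN : AlgSt.SmoothLocally (fun T ↦ IsLocallyNoetherian T) 𝒴)
    (hf : AlgSt.LocQ (AlgSp.LocP @LocallyOfFiniteType) f) :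
    AlgSt.LocQ (AlgSp.LocP @LocallyOfFinitePresentation) f := by
  obtain ⟨V, y, hy1, hy2⟩ := h𝒴.atlas
  have hVN : IsLocallyNoetherian V.left := hN V y hy1
  have h𝒬 : AlgSt.IsAlgStack Scheme.fppfPrecoverage (FibCat.fp f y) :=
    isAlgStack_fp _ h𝒳 (isAlgStack_overCat V) h𝒴 f y
  obtain ⟨T, c, hc1, hc2⟩ := h𝒬.atlas
  obtain ⟨θ⟩ := nonempty_iso_overMap_classify (BasedFunctor.comp c (FibCat.fpSnd f y))
  have hk := prop_of_locQ isSmoothLocalST_locP_lft h𝒳 h𝒴 f hf y hy1 c hc1 _ θ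
  refine locQ_of_chart h𝒳 h𝒴 f y hy1 hy2 c hc1 hc2 _ θ ?_
  rw [locP_yon_map_iff] at hk ⊢
  exact LocallyOfFinitePresentation.iff_locallyOfFiniteType.2 hk

end Noetherian

section Diagonal

theorem classify_id (U : Over S) :
    OverFun.classify (BasedFunctor.id (FibCat.overCat U)) = 𝟙 U := by
  unfold OverFun.classify
  change eqToHom _ ≫ 𝟙 U = 𝟙 U
  simp

/-- The identity has every property that holds for identities of schemes. -/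
theorem locQ_id {P : MorphismProperty (AlgSp.Sp S)}
    (hP : ∀ U : Over S, P ((AlgSp.yon S).map (𝟙 U)))
    (h𝒳 : AlgSt.IsAlgStack Scheme.fppfPrecoverage 𝒳) : AlgSt.LocQ P (BasedFunctor.id 𝒳) := by
  obtain ⟨U, x, hx1, hx2⟩ := h𝒳.atlas
  obtain ⟨θ⟩ := nonempty_iso_overMap_classify (BasedFunctor.id (FibCat.overCat U))
  rw [classify_id] at θ
  exact ⟨U, U, x, x, 𝟙 U, (postF _ x).mapIso θ, hx1, hx2, hx1, hP U⟩

/-- `S13006`. -/
theorem locQ_lfp_diag_of_lft (h𝒳 : AlgSt.IsAlgStack Scheme.fppfPrecoverage 𝒳)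
    (h𝒴 : AlgSt.IsAlgStack Scheme.fppfPrecoverage 𝒴) (f : 𝒳 ⥤ᵇ 𝒴)
    (hf : AlgSt.LocQ (AlgSp.LocP @LocallyOfFiniteType) f) :
    AlgSt.LocQ (AlgSp.LocP @LocallyOfFinitePresentation) (FibCat.diag f) := by
  have h𝒫 : AlgSt.IsAlgStack Scheme.fppfPrecoverage (FibCat.fp f f) :=
    isAlgStack_fp _ h𝒳 h𝒳 h𝒴 f f
  have h1 : AlgSt.LocQ (AlgSp.LocP @LocallyOfFiniteType) (FibCat.fpFst f f) :=
    locQ_fpFst (IsSmoothStable.of_local isSmoothLocalST_locP_lft) (stableBC_locP _) h𝒳 h𝒴 h𝒳 f f hf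
  have h2 : AlgSt.LocQ (AlgSp.LocP @LocallyOfFinitePresentation) (BasedFunctor.id 𝒳) :=
    locQ_id (fun U => (locP_yon_map_iff _ _).2 (by
      change LocallyOfFinitePresentation (𝟙 U.left)
      infer_instance)) h𝒳
  exact locQ_lfp_of_comp h𝒳 h𝒫 h𝒳 (FibCat.diag f) (FibCat.fpFst f f) h2 h1

end Diagonal

end Groth.Agent.Helper2.AlgStLib.LocQ
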