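import Mathlib
import Groth.Prelude.Def_AlgSt4
import Groth.Prelude.Def_AlgSpCov
import Groth.Agent.Lib.Helper2.AlgSt.LocQ.Calc
import Groth.Agent.Lib.Helper3.FppfDesc3

/-!
# Calculus of chart squares: descent along fppf surjective precomposition (helper2)
-/

set_option autoImplicit false
set_option linter.style.haveILetI false
open CategoryTheory CategoryTheory.Functor CategoryTheory.Limits AlgebraicGeometry Opposite

universe u

namespace Groth.Agent.Helper2.AlgStLib.LocQ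

open Groth.Agent.Helper2 Groth.Agent.Helper2.FibCatLib Groth.Agent.Helper2.StkLib
open Groth.Agent.Helper2.AlgSpBasic Groth.Agent.Helper2.EtaleLocal
open Groth.Agent.Helper2.AlgStLib Groth.Agent.Helper2.AlgStLib.Pts

variable {S : Scheme.{u}} {𝒳 𝒴 𝒵 : BasedCategory.{u, u + 1} (Over S)}

/-- Descent of a chart-square property along a flat, surjective, locally finitely presented
morphism on the source. -/
theorem locQ_of_comp_of_fppf (P : MorphismProperty Scheme.{u}) [IsEtaleLocalST P]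
    (hsl : AlgSp.IsSmoothLocalST (S := S) (AlgSp.LocP P))
    (hdesc : ∀ ⦃U' U V : Scheme.{u}⦄ (d : U' ⟶ U) (φ : U ⟶ V), Flat d →
      LocallyOfFinitePresentation d → Surjective d → P (d ≫ φ) → P φ)
    (h𝒳 : AlgSt.IsAlgStack Scheme.fppfPrecoverage 𝒳)
    (h𝒴 : AlgSt.IsAlgStack Scheme.fppfPrecoverage 𝒴)
    (h𝒵 : AlgSt.IsAlgStack Scheme.fppfPrecoverage 𝒵) (f : 𝒳 ⥤ᵇ 𝒴) (g : 𝒴 ⥤ᵇ 𝒵)
    (hf₁ : AlgSt.LocQ (AlgSp.LocP @Flat) f)
    (hf₁' : AlgSt.LocQ (AlgSp.LocP @LocallyOfFinitePresentation) f)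
    (hf₂ : AlgSt.IsSurjective f)
    (h : AlgSt.LocQ (AlgSp.LocP P) (BasedFunctor.comp f g)) :
    AlgSt.LocQ (AlgSp.LocP P) g := by
  obtain ⟨W, z, hz1, hz2⟩ := h𝒵.atlas
  have h𝒬 : AlgSt.IsAlgStack Scheme.fppfPrecoverage (FibCat.fp g z) :=
    isAlgStack_fp _ h𝒴 (isAlgStack_overCat W) h𝒵 g z
  obtain ⟨V, v, hv1, hv2⟩ := h𝒬.atlas
  obtain ⟨θ⟩ := nonempty_iso_overMap_classify (BasedFunctor.comp v (FibCat.fpSnd g z))
  have hV : FibCat.IsFibGrpd (FibCat.overCat V).p := isFibGrpd_overCat V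
  have hy : Sm (BasedFunctor.comp v (FibCat.fpFst g z)) :=
    sm_comp hV h𝒬.isStack.1 _ _ hv1 (repByAlgSpWith_fpFst _ z g hz1)
  have h𝒬' : AlgSt.IsAlgStack Scheme.fppfPrecoverage
      (FibCat.fp f (BasedFunctor.comp v (FibCat.fpFst g z))) :=
    isAlgStack_fp _ h𝒳 (isAlgStack_overCat V) h𝒴 f _
  obtain ⟨U, c', hc1, hc2⟩ := h𝒬'.atlas
  obtain ⟨θ'⟩ := nonempty_iso_overMap_classify
    (BasedFunctor.comp c' (FibCat.fpSnd f (BasedFunctor.comp v (FibCat.fpFst g z))))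
  have hU : FibCat.IsFibGrpd (FibCat.overCat U).p := isFibGrpd_overCat U
  have hk := prop_of_locQ isSmoothLocalST_locP_flat h𝒳 h𝒴 f hf₁ _ hy c' hc1 _ θ'
  rw [locP_yon_map_iff] at hk
  have hk' := prop_of_locQ isSmoothLocalST_locP_lfp h𝒳 h𝒴 f hf₁' _ hy c' hc1 _ θ'
  rw [locP_yon_map_iff] at hk'
  have hks := surjective_of_chart_of_isSurjective h𝒬'.isStack.1 c' _ _ θ' hc2
    (isSurjective_fpSnd h𝒳.isStack.1 h𝒴.isStack.1 hV f _ hf₂)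
  have hkq := prop_of_locQ hsl h𝒳 h𝒵 (BasedFunctor.comp f g) h z hz1
    (BasedFunctor.comp c' (towerMap f g z v))
    (sm_comp hU h𝒬'.isStack.1 _ _ hc1 (repByAlgSpWith_towerMap f g z v _ hv1)) _
    ((postF _ (BasedFunctor.comp v (FibCat.fpSnd g z))).mapIso θ' ≪≫
      whiskerLeftIso (AlgSt.overMap _) θ ≪≫ overMapCompIso _ _)
  rw [locP_yon_map_iff, Over.comp_left] at hkq
  refine locQ_of_chart h𝒴 h𝒵 g z hz1 hz2 v hv1 hv2 _ θ ?_
  rw [locP_yon_map_iff]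
  exact hdesc _ _ hk hk' hks hkq

/-- `S13007`. -/
theorem locQ_lfp_of_comp_of_fppf
    (h𝒳 : AlgSt.IsAlgStack Scheme.fppfPrecoverage 𝒳)
    (h𝒴 : AlgSt.IsAlgStack Scheme.fppfPrecoverage 𝒴)
    (h𝒵 : AlgSt.IsAlgStack Scheme.fppfPrecoverage 𝒵) (f : 𝒳 ⥤ᵇ 𝒴) (g : 𝒴 ⥤ᵇ 𝒵)
    (hf₁ : AlgSt.LocQ (AlgSp.LocP @Flat) f)
    (hf₁' : AlgSt.LocQ (AlgSp.LocP @LocallyOfFinitePresentation) f)
    (hf₂ : AlgSt.IsSurjective f)
    (h : AlgSt.LocQ (AlgSp.LocP @LocallyOfFinitePresentation) (BasedFunctor.comp f g)) :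
    AlgSt.LocQ (AlgSp.LocP @LocallyOfFinitePresentation) g := by
  refine locQ_of_comp_of_fppf @LocallyOfFinitePresentation isSmoothLocalST_locP_lfp ?_ h𝒳 h𝒴 h𝒵 f g
    hf₁ hf₁' hf₂ h
  intro U' U V d φ h1 h2 h3 h4
  haveI := h1
  haveI := h2
  haveI := h3
  haveI : LocallyOfFinitePresentation (d ≫ φ) := h4
  exact Groth.Agent.Helper3.FppfDesc.locallyOfFinitePresentation_of_fppf_cover d φ

/-- `S13001`, chart-square form. -/
theorem locQ_lft_of_comp_of_fppf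
    (h𝒳 : AlgSt.IsAlgStack Scheme.fppfPrecoverage 𝒳)
    (h𝒴 : AlgSt.IsAlgStack Scheme.fppfPrecoverage 𝒴)
    (h𝒵 : AlgSt.IsAlgStack Scheme.fppfPrecoverage 𝒵) (f : 𝒳 ⥤ᵇ 𝒴) (g : 𝒴 ⥤ᵇ 𝒵)
    (hf₁ : AlgSt.LocQ (AlgSp.LocP @Flat) f)
    (hf₁' : AlgSt.LocQ (AlgSp.LocP @LocallyOfFinitePresentation) f)
    (hf₂ : AlgSt.IsSurjective f)
    (h : AlgSt.LocQ (AlgSp.LocP @LocallyOfFiniteType) (BasedFunctor.comp f g)) :
    AlgSt.LocQ (AlgSp.LocP @LocallyOfFiniteType) g := by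
  refine locQ_of_comp_of_fppf @LocallyOfFiniteType isSmoothLocalST_locP_lft ?_ h𝒳 h𝒴 h𝒵 f g
    hf₁ hf₁' hf₂ h
  intro U' U V d φ h1 h2 h3 h4
  haveI := h1
  haveI := h2
  haveI := h3
  haveI : LocallyOfFiniteType (d ≫ φ) := h4
  exact Groth.Agent.Helper3.FppfDesc.locallyOfFiniteType_of_fppf_cover d φ

end Groth.Agent.Helper2.AlgStLib.LocQ
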