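import Mathlib
import Groth.Prelude.Def_AlgSt4
import Groth.Prelude.Def_AlgSpCov
import Groth.Agent.Lib.Helper2.AlgSt.LocQ.CalcFppf
import Groth.Agent.Lib.Helper2.AlgSt.LocQ.Rep
import Groth.Agent.Lib.Helper2.AlgSt.FppfLift
import Groth.Agent.Lib.Helper2.AlgSt.Pts.Space
import Groth.Agent.Lib.Helper2.AlgSt.RepDiagApps3

/-!
# Descent of local finite type along representable fppf surjective precomposition (helper2)
-/

set_option autoImplicit false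
set_option linter.style.haveILetI false
open CategoryTheory CategoryTheory.Functor CategoryTheory.Limits AlgebraicGeometry Opposite

universe u

namespace Groth.Agent.Helper2.AlgStLib.LocQ

open Groth.Agent.Helper2 Groth.Agent.Helper2.FibCatLib Groth.Agent.Helper2.StkLib
open Groth.Agent.Helper2.AlgSpBasic Groth.Agent.Helper2.EtaleLocal
open Groth.Agent.Helper2.AlgStLib Groth.Agent.Helper2.AlgStLib.Pts

variable {S : Scheme.{u}} {𝒳 𝒴 𝒵 : BasedCategory.{u, u + 1} (Over S)}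

/-- `S13001`. -/
theorem locQ_lft_of_precomp_fppf
    (h𝒳 : AlgSt.IsAlgStack Scheme.fppfPrecoverage 𝒳)
    (h𝒴 : AlgSt.IsAlgStack Scheme.fppfPrecoverage 𝒴)
    (h𝒵 : AlgSt.IsAlgStack Scheme.fppfPrecoverage 𝒵) (f : 𝒳 ⥤ᵇ 𝒴) (g : 𝒴 ⥤ᵇ 𝒵)
    (hf₁ : AlgSt.RepByAlgSpWith (AlgSp.LocP @Flat) f)
    (hf₂ : AlgSt.RepByAlgSpWith (AlgSp.LocP @LocallyOfFinitePresentation) f)
    (hf₃ : AlgSt.RepByAlgSpWith AlgSp.IsSurjectiveMor f)
    (h : AlgSt.LocQ (AlgSp.LocP @LocallyOfFiniteType) (BasedFunctor.comp f g)) :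
    AlgSt.LocQ (AlgSp.LocP @LocallyOfFiniteType) g := by
  have hrep : AlgSt.RepByAlgSp1 f := repByAlgSp1_of_repByAlgSpWith f hf₁
  have h1 : AlgSt.LocQ (AlgSp.LocP @Flat) f :=
    (locQ_iff_repByAlgSpWith isSmoothLocalST_locP_flat (stableBC_locP @Flat)
      isLocalOnBase_fppf_locP_flat h𝒳 h𝒴 f hrep).2 hf₁
  have h2 : AlgSt.LocQ (AlgSp.LocP @LocallyOfFinitePresentation) f :=
    (locQ_iff_repByAlgSpWith isSmoothLocalST_locP_lfp (stableBC_locP @LocallyOfFinitePresentation)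
      isLocalOnBase_fppf_locP_lfp h𝒳 h𝒴 f hrep).2 hf₂
  have h3 : AlgSt.IsSurjective f := isSurjective_of_repByAlgSpWith h𝒴.isStack.1 f hf₃
  exact locQ_lft_of_comp_of_fppf h𝒳 h𝒴 h𝒵 f g h1 h2 h3 h

end Groth.Agent.Helper2.AlgStLib.LocQ
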